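import Cfsg.Agent.Lib.BrauerPairs.SubsectionCount
import Cfsg.Agent.Lib.StarChar.NilpotentPairing
import Cfsg.Agent.S4644
import Cfsg.Agent.S4571
import Cfsg.Agent.S4637

/-!
# A principal local block of rank three

If the normalizer of an elementary abelian Sylow `2`-subgroup of order `16` fixes a four subgroup
pointwise and moves the quotient, the principal block has rank three: the fixed elements may be
taken central, and the quotient has a Klein four Sylow subgroup.
-/

set_option autoImplicit false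
set_option linter.style.haveILetI false
set_option linter.unusedSectionVars false

namespace Cfsg.Agent.Lib.ElemNine.Local

open Cfsg.Agent.Lib.Blocks
open Cfsg.Agent.Lib.BrauerPairs Cfsg.Agent.Lib.BrauerPairs.Center
open Cfsg.Agent.Lib.BrauerPairs.Pairs Cfsg.Agent.Lib.BrauerPairs.Transport
open Cfsg.Agent.Lib.BrauerPairs.Maximal Cfsg.Agent.Lib.BrauerPairs.Bridge
open Cfsg.Agent.Lib.BrauerPairs.Local Cfsg.Agent.Lib.BrauerPairs.Principal
open Cfsg.Agent.Lib.BrauerPairs.Fusion Cfsg.Agent.Lib.BrauerPairs.SubsectionCount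

universe u

attribute [local instance] Ideal.Quotient.field

variable {M : Ideal Cfsg.AlgInt} [M.IsMaximal] {G : Type u} [Group G] [Finite G]

local notation "C[" P "]" => Subgroup.centralizer ((P : Subgroup G) : Set G)

theorem toSet_princ : toSet (princ (Res M) G) = Cfsg.principalBlock M G := by
  rw [← blk_principalBlock, toSet_blk]

theorem mem_stab_princ {P : Subgroup G} {g : G} (hg : g ∈ Subgroup.normalizer (P : Set G)) :
    g ∈ stab (⟨P, princ (Res M) C[P]⟩ : Idx (Res M) G) := by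
  have h : P.map (MulAut.conj g).toMonoidHom = P := by
    ext y
    rw [Subgroup.mem_map]
    constructor
    · rintro ⟨z, hz, rfl⟩
      exact (Subgroup.mem_normalizer_iff.mp hg z).mp hz
    · intro hy
      exact ⟨g⁻¹ * y * g, (Subgroup.mem_normalizer_iff.mp hg _).mpr (by simpa [mul_assoc] using hy),
        by simp [mul_assoc]⟩
  rw [mem_stab, cPair_princ, h]

variable {p : ℕ} [Fact p.Prime] [CharP (Res M) p]

theorem localBlk_princ (S : Sylow p G) (hab : ∀ x ∈ S, ∀ y ∈ S, x * y = y * x) {u : G}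
    (hu : u ∈ S) :
    localBlk (princ (Res M) C[(S : Subgroup G)]) S.2 hab hu =
      princ (Res M) C[Subgroup.zpowers u] :=
  le_unique S.2 _ (le_localBlk S.2 hab hu) (le_princ S.2 (Subgroup.zpowers_le.mpr hu))

theorem blkAt_princ (S : Sylow p G)
    (hb : IsPGroup p (⟨(S : Subgroup G), princ (Res M) C[(S : Subgroup G)]⟩ : Idx (Res M) G).1)
    (u : (S : Subgroup G)) :
    StarChar.NilpotentPairing.blkAt (b := (⟨(S : Subgroup G), princ (Res M) C[(S : Subgroup G)]⟩ :
      Idx (Res M) G)) hb u = princ (Res M) C[Subgroup.zpowers (u : G)] :=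
  (StarChar.NilpotentPairing.eq_blkAt hb u (le_princ S.2 (Subgroup.zpowers_le.mpr u.2))).symm

/-- A fixed element may be taken central. -/
theorem step (hM : Cfsg.IsPModular p M) (S : Sylow p G) (hab : ∀ x ∈ S, ∀ y ∈ S, x * y = y * x)
    {v : G} (hv : v ∈ S)
    (hfix : ∀ t ∈ Subgroup.normalizer ((S : Subgroup G) : Set G), t * v * t⁻¹ = v) :
    Cfsg.blockRank p (Cfsg.principalBlock M C[Subgroup.zpowers v]) =
      Cfsg.blockRank p (Cfsg.principalBlock M G) := by
  haveI := Fintype.ofFinite G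
  have h := (Watanabe.Main.main hM (Watanabe.Integral.starHyp hM) (top_princ S)
    (pairOf_princ S.2) hab ⟨v, hv⟩ fun t ht => hfix t (stab_le_normalizer _ ht)).1
  rwa [localBlk_princ S hab hv, toSet_princ, toSet_princ] at h

/-- The four Sylow subgroup with a moving element. -/
theorem klein_rank (hM : Cfsg.IsPModular 2 M) (P : Sylow 2 G) (hP : Nat.card P = 4)
    (hsq : ∀ x ∈ P, x ^ 2 = 1) {t x : G}
    (ht : t ∈ Subgroup.normalizer ((P : Subgroup G) : Set G)) (hx : x ∈ P)
    (hne : t * x * t⁻¹ ≠ x) : Cfsg.blockRank 2 (Cfsg.principalBlock M G) = 3 := by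
  classical
  haveI : Fact (Nat.Prime 2) := ⟨Nat.prime_two⟩
  haveI : CharP (Res M) 2 := charP_res hM
  have hV : IsKleinFour (P : Subgroup G) := by
    refine ⟨hP, ?_⟩
    refine ((Nat.dvd_prime Nat.prime_two).mp
      (Monoid.exponent_dvd_of_forall_pow_eq_one fun y : (P : Subgroup G) =>
        Subtype.ext (hsq y y.2))).resolve_left fun h1 => ?_
    haveI := Monoid.exp_eq_one_iff.mp h1
    rw [Nat.card_of_subsingleton (1 : (P : Subgroup G))] at hP
    omega
  set c := toSet (princ (Res M) C[(P : Subgroup G)]) with hcdef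
  have hc1 : Cfsg.IsPBlock M c := isPBlock_toSet _
  have hB := Bridge.isPBlock_principalBlock (M := M) (G := G)
  have hPD : Cfsg.IsDefectGroup 2 M (Cfsg.principalBlock M G) P :=
    (isDefectGroup_iff hB _).mpr (by rw [blk_principalBlock]; exact (isDef_princ_iff _).mpr ⟨P, rfl⟩)
  have hc : Cfsg.IsInducedBlock M C[(P : Subgroup G)] c (Cfsg.principalBlock M G) :=
    (InducedPair.isInducedBlock_iff P.2 hc1 hB).mpr (by
      rw [blk_principalBlock, show blk hc1 = princ (Res M) C[(P : Subgroup G)] from blk_toSet _ hc1]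
      exact pairOf_princ P.2)
  obtain ⟨hcase, -, hrank⟩ := Cfsg.Agent.S4637.result M hM _ hB P hPD hV c hc
    (Subgroup.normalizer ((P : Subgroup G) : Set G)) (fun g => ⟨fun hg => ⟨hg, by
      rw [stabilizesBlock_iff hc1 hg, act_eq_iff,
        show blk hc1 = princ (Res M) C[(P : Subgroup G)] from blk_toSet _ hc1]
      exact (mem_stab_iff.mp (mem_stab_princ hg)).2⟩, And.left⟩) _ rfl
  rw [hrank]
  refine hcase.resolve_left fun h1 => hne ?_
  rw [mul_inv_eq_iff_eq_mul]
  exact (Subgroup.mem_centralizer_iff.mp (Subgroup.relIndex_eq_one.mp h1 ht) x hx).symm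

/-- The quotient by the central four group. -/
theorem rank_of_central (hM : Cfsg.IsPModular 2 M) (P : Sylow 2 G) (hP : Nat.card P = 16)
    (hsq : ∀ x ∈ P, x ^ 2 = 1) (Q : Subgroup G) (hQ : Nat.card Q = 4)
    (hcen : Q ≤ Subgroup.center G) {t x : G}
    (ht : t ∈ Subgroup.normalizer ((P : Subgroup G) : Set G)) (hx : x ∈ P)
    (hne : t * x * t⁻¹ * x⁻¹ ∉ Q) : Cfsg.blockRank 2 (Cfsg.principalBlock M G) = 3 := by
  classical
  haveI : Fact (Nat.Prime 2) := ⟨Nat.prime_two⟩
  haveI : Q.Normal := ⟨fun n hn g => by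
    rw [Subgroup.mem_center_iff.mp (hcen hn) g, mul_inv_cancel_right]; exact hn⟩
  have hsup : Q ⊔ C[Q] = ⊤ := top_le_iff.mp (le_trans (fun g _ =>
    Subgroup.mem_centralizer_iff.mpr fun n hn => (Subgroup.mem_center_iff.mp (hcen hn) g).symm)
      le_sup_right)
  rw [Cfsg.Agent.S4571.result 2 M hM Q (IsPGroup.of_card (n := 2) (by rw [hQ]; norm_num)) hsup]
  set π := QuotientGroup.mk' Q with hπdef
  have hπ : Function.Surjective π := QuotientGroup.mk'_surjective Q
  let P' := P.mapSurjective hπ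
  have hcoe : (P' : Subgroup (G ⧸ Q)) = (P : Subgroup G).map π := Sylow.coe_mapSurjective hπ P
  refine klein_rank hM P' ?_ ?_ (t := π t) (x := π x) ?_ ?_ ?_
  · have h1 := P.card_eq_multiplicity
    rw [hP] at h1
    rw [P'.card_eq_multiplicity]
    have h2 : (Nat.card G).factorization 2 = 4 := by
      refine Nat.pow_right_injective le_rfl ?_
      show 2 ^ _ = 2 ^ 4
      rw [← h1]
    have h3 : (Nat.card G).factorization 2 = (Nat.card (G ⧸ Q)).factorization 2 + 2 := by
      rw [Subgroup.card_eq_card_quotient_mul_card_subgroup Q, hQ,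
        Nat.factorization_mul Nat.card_pos.ne' (by norm_num), Finsupp.add_apply,
        show (4 : ℕ) = 2 ^ 2 by norm_num, Nat.prime_two.factorization_pow, Finsupp.single_eq_same]
    rw [show (Nat.card (G ⧸ Q)).factorization 2 = 2 by omega]
    norm_num
  · rintro y hy
    obtain ⟨z, hz, rfl⟩ := (hcoe ▸ hy : y ∈ (P : Subgroup G).map π)
    rw [← map_pow, hsq z hz, map_one]
  · rw [Subgroup.mem_normalizer_iff]
    intro y
    rw [hcoe]
    constructor
    · rintro ⟨z, hz, rfl⟩
      exact ⟨t * z * t⁻¹, (Subgroup.mem_normalizer_iff.mp ht z).mp hz, by simp⟩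
    · rintro ⟨z, hz, he⟩
      refine ⟨t⁻¹ * z * t, (Subgroup.mem_normalizer_iff.mp ht _).mpr ?_, ?_⟩
      · have : z ∈ (P : Subgroup G) := hz
        simpa [mul_assoc] using this
      · rw [map_mul, map_mul, map_inv, he]; group
  · show π x ∈ (P' : Subgroup (G ⧸ Q))
    rw [hcoe]
    exact ⟨x, hx, rfl⟩
  · intro h
    refine hne ((QuotientGroup.eq_one_iff _).mp ?_)
    show π (t * x * t⁻¹ * x⁻¹) = 1
    rw [map_mul, map_mul, map_mul, map_inv, map_inv, h, mul_inv_cancel]

end Cfsg.Agent.Lib.ElemNine.Local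

namespace Cfsg.Agent.Lib.ElemNine.Local

open Cfsg.Agent.Lib.BrauerPairs.Center Cfsg.Agent.Lib.BrauerPairs.Bridge
open Cfsg.Agent.Lib.Blocks

universe u

attribute [local instance] Ideal.Quotient.field

theorem mem_normalizer_of_subtype {G : Type u} [Group G] {P H : Subgroup G} (hle : P ≤ H) {t : H}
    (ht : t ∈ Subgroup.normalizer ((P.subgroupOf H : Subgroup H) : Set H)) :
    (t : G) ∈ Subgroup.normalizer (P : Set G) := by
  rw [Subgroup.mem_normalizer_iff]
  intro x
  constructor
  · intro hx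
    exact Subgroup.mem_subgroupOf.mp ((Subgroup.mem_normalizer_iff.mp ht ⟨x, hle hx⟩).mp hx)
  · intro hx
    have hxH : x ∈ H := by
      have := mul_mem (mul_mem (inv_mem t.2) (hle hx)) t.2
      simpa [mul_assoc] using this
    exact (Subgroup.mem_normalizer_iff.mp ht ⟨x, hxH⟩).mpr (Subgroup.mem_subgroupOf.mpr hx)

/-- The property passed to the centralizer of a fixed element. -/
structure Moving {G : Type u} [Group G] (P : Sylow 2 G) (Q : Subgroup G) : Prop where
  card : Nat.card P = 16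
  sq : ∀ x ∈ P, x ^ 2 = 1
  le : Q ≤ (P : Subgroup G)
  cardQ : Nat.card Q = 4
  fix : ∀ t ∈ Subgroup.normalizer ((P : Subgroup G) : Set G), ∀ q ∈ Q, t * q * t⁻¹ = q
  moves : ∃ t ∈ Subgroup.normalizer ((P : Subgroup G) : Set G), ∃ x ∈ P, t * x * t⁻¹ * x⁻¹ ∉ Q

variable {G : Type u} [Group G] [Finite G]

theorem commute_of_sq {P : Subgroup G} (h : ∀ x ∈ P, x ^ 2 = 1) :
    ∀ x ∈ P, ∀ y ∈ P, x * y = y * x := fun x hx y hy => by
  have hi : ∀ u ∈ P, u⁻¹ = u := fun u hu =>
    inv_eq_of_mul_eq_one_right (by rw [← sq]; exact h u hu)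
  calc x * y = (x * y)⁻¹ := (hi _ (mul_mem hx hy)).symm
    _ = y⁻¹ * x⁻¹ := mul_inv_rev x y
    _ = y * x := by rw [hi x hx, hi y hy]

theorem Moving.subtype {P : Sylow 2 G} {Q : Subgroup G} (h : Moving P Q) {v : G} (hv : v ∈ Q)
    (hle : (P : Subgroup G) ≤ Subgroup.centralizer (Subgroup.zpowers v : Set G)) :
    Moving (P.subtype hle) (Q.subgroupOf (Subgroup.centralizer (Subgroup.zpowers v : Set G))) := by
  set H := Subgroup.centralizer (Subgroup.zpowers v : Set G)
  have hcoe : (P.subtype hle : Subgroup H) = (P : Subgroup G).subgroupOf H := rfl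
  refine ⟨?_, ?_, ?_, ?_, ?_, ?_⟩
  · exact (Nat.card_congr (Subgroup.subgroupOfEquivOfLe hle).toEquiv).trans h.card
  · exact fun x hx => Subtype.ext (h.sq x hx)
  · exact fun x hx => h.le hx
  · exact (Nat.card_congr (Subgroup.subgroupOfEquivOfLe (h.le.trans hle)).toEquiv).trans h.cardQ
  · intro t ht q hq
    rw [hcoe] at ht
    exact Subtype.ext (h.fix t (mem_normalizer_of_subtype hle ht) q hq)
  · obtain ⟨t, ht, x, hx, hne⟩ := h.moves
    have htH : t ∈ H := by
      show t ∈ Subgroup.centralizer ((Subgroup.zpowers v : Subgroup G) : Set G)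
      rw [Cfsg.Agent.Lib.BrauerMap.PrincipalSection.centralizer_zpowers_eq,
        Subgroup.mem_centralizer_singleton_iff]
      exact mul_inv_eq_iff_eq_mul.mp (h.fix t ht v hv)
    refine ⟨⟨t, htH⟩, ?_, ⟨x, hle hx⟩, hx, hne⟩
    rw [hcoe, Subgroup.mem_normalizer_iff]
    intro y
    exact Subgroup.mem_normalizer_iff.mp ht y

/-- **Rank three.** -/
theorem rank_eq_three {M : Ideal Cfsg.AlgInt} [M.IsMaximal] [Fact (Nat.Prime 2)]
    [CharP (Res M) 2] (hM : Cfsg.IsPModular 2 M) {P : Sylow 2 G} {Q : Subgroup G}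
    (h : Moving P Q) : Cfsg.blockRank 2 (Cfsg.principalBlock M G) = 3 := by
  classical
  haveI := Fintype.ofFinite Q
  have hab := commute_of_sq h.sq
  -- two generators
  obtain ⟨v, hv1⟩ := Fintype.exists_ne_of_one_lt_card
    (show 1 < Fintype.card Q by rw [← Nat.card_eq_fintype_card, h.cardQ]; norm_num) (1 : Q)
  obtain ⟨w, -, hwv⟩ : ∃ w ∈ (Finset.univ : Finset Q), w ∉ ({1, v} : Finset Q) :=
    Finset.exists_mem_notMem_of_card_lt_card (by
      rw [Finset.card_univ, ← Nat.card_eq_fintype_card, h.cardQ]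
      have := Finset.card_le_two (a := (1 : Q)) (b := v)
      omega)
  have hgen : ∀ g : G, g * v = v * g → g * w = w * g → ∀ q ∈ Q, q * g = g * q := by
    intro g hgv hgw
    set K : Subgroup G := Q ⊓ Subgroup.centralizer ({g} : Set G) with hK
    have hmem : ∀ y : Q, (y : G) * g = g * y → (y : G) ∈ K := fun y hy =>
      ⟨y.2, Subgroup.mem_centralizer_singleton_iff.mpr hy⟩
    have h3 : ({1, v, w} : Finset Q).card = 3 := by
      simp only [Finset.mem_insert, Finset.mem_singleton, not_or] at hwv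
      rw [Finset.card_insert_of_notMem (by simp [Ne.symm hv1, Ne.symm hwv.1]),
        Finset.card_insert_of_notMem (by simp [Ne.symm hwv.2]), Finset.card_singleton]
    haveI := Fintype.ofFinite K
    have hle : 3 ≤ Nat.card K := by
      rw [← h3, Nat.card_eq_fintype_card, ← Finset.card_map ⟨fun y : Q => (y : G), Subtype.val_injective⟩]
      rw [← Finset.card_univ, ← Finset.card_map (s := (Finset.univ : Finset K)) ⟨fun y : K => (y : G), Subtype.val_injective⟩]
      refine Finset.card_le_card fun z hz => ?_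
      obtain ⟨y, hy, rfl⟩ := Finset.mem_map.mp hz
      refine Finset.mem_map.mpr ⟨⟨y, ?_⟩, Finset.mem_univ _, rfl⟩
      simp only [Finset.mem_insert, Finset.mem_singleton] at hy
      rcases hy with rfl | rfl | rfl
      exacts [one_mem K, hmem _ hgv.symm, hmem _ hgw.symm]
    have hdvd : Nat.card K ∣ 4 := h.cardQ ▸ Subgroup.card_dvd_of_le inf_le_left
    have h4 : Nat.card K = 4 := by
      have := Nat.le_of_dvd (by norm_num) hdvd
      interval_cases hn : Nat.card K <;> simp_all
    intro q hq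
    have hKQ : K = Q := Subgroup.eq_of_le_of_card_ge inf_le_left (by rw [h4, h.cardQ])
    exact Subgroup.mem_centralizer_singleton_iff.mp ((hKQ ▸ hq : q ∈ K)).2
  set H₁ := Subgroup.centralizer (Subgroup.zpowers (v : G) : Set G) with hH₁
  have hle₁ : (P : Subgroup G) ≤ H₁ :=
    BrauerPairs.SubsectionCount.le_centralizer_zpowers hab (h.le v.2)
  rw [← step hM P hab (h.le v.2) fun t ht => h.fix t ht v v.2]
  have h₁ := h.subtype v.2 hle₁
  set w₁ : H₁ := ⟨w, hle₁ (h.le w.2)⟩
  have hab₁ := commute_of_sq h₁.sq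
  have hle₂ := BrauerPairs.SubsectionCount.le_centralizer_zpowers (u := w₁) hab₁ (h₁.le w.2)
  rw [← step hM (P.subtype hle₁) hab₁ (v := w₁) (h₁.le w.2) fun t ht => h₁.fix t ht w₁ w.2]
  have h₂ := h₁.subtype (v := w₁) w.2 hle₂
  obtain ⟨t, ht, x, hx, hne⟩ := h₂.moves
  refine rank_of_central hM _ h₂.card h₂.sq _ h₂.cardQ (fun q hq => ?_) ht hx hne
  rw [Subgroup.mem_center_iff]
  intro g
  refine Subtype.ext (Subtype.ext ?_)
  refine (hgen _ ?_ ?_ _ hq).symm
  · exact (Subgroup.mem_centralizer_iff.mp (g : H₁).2 _ (Subgroup.mem_zpowers _)).symm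
  · exact congrArg Subtype.val
      (Subgroup.mem_centralizer_iff.mp g.2 _ (Subgroup.mem_zpowers w₁)).symm

end Cfsg.Agent.Lib.ElemNine.Local
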