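import Mathlib

/-!
# A group of order nine acting faithfully on an elementary abelian group of order sixteen

The group is the direct product of two four groups, each invariant, with one orbit of three
elements on each, and a regular orbit on the nine elements outside both.
-/

set_option autoImplicit false
set_option linter.unusedSectionVars false
set_option linter.style.haveILetI false

namespace Cfsg.Agent.Lib.ElemNine.Structure

variable {D : Type*} [CommGroup D] [Finite D] {A : Subgroup (MulAut D)}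

/-- The fixed points. -/
def fixSub (γ : MulAut D) : Subgroup D := MonoidHom.eqLocus γ.toMonoidHom (MonoidHom.id D)

theorem mem_fixSub {γ : MulAut D} {u : D} : u ∈ fixSub γ ↔ γ u = u := Iff.rfl

theorem pow_fix {γ : MulAut D} {u : D} (h : γ u = u) : ∀ n : ℕ, (γ ^ n) u = u
  | 0 => rfl
  | n + 1 => by rw [pow_succ, MulAut.mul_apply, h, pow_fix h n]

/-- A power of order three with the same fixed points. -/
theorem exists_cube (hA : Nat.card A = 9) {γ : MulAut D} (hγ : γ ∈ A) (h1 : γ ≠ 1) :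
    ∃ δ ∈ A, δ ≠ 1 ∧ δ ^ 3 = 1 ∧ ∀ u, γ u = u → δ u = u := by
  have h9 : γ ^ 9 = 1 := by
    have := pow_card_eq_one' (x := (⟨γ, hγ⟩ : A))
    rw [hA] at this
    exact congrArg Subtype.val this
  by_cases h3 : γ ^ 3 = 1
  · exact ⟨γ, hγ, h1, h3, fun _ h => h⟩
  · exact ⟨γ ^ 3, pow_mem hγ 3, h3, by rw [← pow_mul]; exact h9, fun u h => pow_fix h 3⟩

/-- A free action on a set: the order divides the number of points. -/
theorem nine_dvd_of_free (hA : Nat.card A = 9) (s : Set D) (hs : ∀ γ ∈ A, ∀ u ∈ s, γ u ∈ s)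
    (hfree : ∀ γ ∈ A, ∀ u ∈ s, γ u = u → γ = 1) : 9 ∣ Nat.card s := by
  letI : MulAction A s :=
    { smul := fun γ u => ⟨γ.1 u.1, hs γ.1 γ.2 u.1 u.2⟩
      one_smul := fun _ => rfl
      mul_smul := fun _ _ _ => rfl }
  have horb : ∀ x : s, Nat.card (MulAction.orbit A x) = 9 := fun x => by
    rw [← hA]
    refine (Nat.card_congr (Equiv.ofBijective
      (fun γ : A => (⟨γ • x, MulAction.mem_orbit x γ⟩ : MulAction.orbit A x)) ⟨fun γ δ h => ?_, ?_⟩)).symm
    · have h' : γ.1 x.1 = δ.1 x.1 := congrArg (fun z => z.1.1) h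
      refine Subtype.ext (inv_mul_eq_one.mp (hfree _ (mul_mem (inv_mem δ.2) γ.2) x.1 x.2 ?_)).symm
      rw [MulAut.mul_apply, h']
      exact MulEquiv.symm_apply_apply _ _
    · rintro ⟨_, γ, rfl⟩
      exact ⟨γ, rfl⟩
  haveI := Fintype.ofFinite (Quotient (MulAction.orbitRel A s))
  rw [Nat.card_congr (MulAction.selfEquivSigmaOrbits A s), Nat.card_sigma]
  exact Finset.dvd_sum fun ω _ => (horb _).symm ▸ dvd_refl 9

variable (hD : Nat.card D = 16) (hsq : ∀ u : D, u ^ 2 = 1)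

include hD in
theorem card_fixSub {γ : MulAut D} (h1 : γ ≠ 1) (h3 : γ ^ 3 = 1) :
    Nat.card (fixSub γ) = 1 ∨ Nat.card (fixSub γ) = 4 := by
  classical
  have hcl : IsPGroup 3 (Subgroup.zpowers γ) := by
    refine IsPGroup.of_card (n := 1) ?_
    rw [Nat.card_zpowers, pow_one]
    exact orderOf_eq_prime h3 h1
  haveI : Fact (Nat.Prime 3) := ⟨Nat.prime_three⟩
  have hmod := hcl.card_modEq_card_fixedPoints D
  have hfix : Nat.card (MulAction.fixedPoints (Subgroup.zpowers γ) D) = Nat.card (fixSub γ) := by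
    refine Nat.card_congr (Equiv.subtypeEquivRight fun u => ?_)
    constructor
    · exact fun h => h ⟨γ, Subgroup.mem_zpowers γ⟩
    · rintro h ⟨δ, hδ⟩
      obtain ⟨n, rfl⟩ := mem_powers_iff_mem_zpowers.mpr hδ
      exact pow_fix h n
  rw [hfix, hD] at hmod
  have hdvd : Nat.card (fixSub γ) ∣ 2 ^ 4 := by
    rw [show (2 : ℕ) ^ 4 = 16 by norm_num, ← hD]
    exact Subgroup.card_subgroup_dvd_card _
  have h16 : Nat.card (fixSub γ) ≠ 16 := fun h => h1 (MulEquiv.ext fun u => by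
    rw [MulAut.one_apply]
    exact mem_fixSub.mp (Subgroup.eq_top_of_card_eq _ (h.trans hD.symm) ▸ Subgroup.mem_top u))
  obtain ⟨i, hi, hc⟩ := (Nat.dvd_prime_pow Nat.prime_two).mp hdvd
  rw [hc] at hmod h16 ⊢
  interval_cases i <;> simp_all [Nat.ModEq]

include hD in
theorem card_fixSub_eq_four {γ : MulAut D} (h1 : γ ≠ 1) (h3 : γ ^ 3 = 1) {u : D} (hu : u ≠ 1)
    (hfix : γ u = u) : Nat.card (fixSub γ) = 4 := by
  refine (card_fixSub hD h1 h3).resolve_left fun h => hu ?_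
  haveI := (Nat.card_eq_one_iff_unique.mp h).1
  exact congrArg Subtype.val (Subsingleton.elim (⟨u, hfix⟩ : fixSub γ) 1)

/-- An invariant four group with one orbit of three elements. -/
structure Half (A : Subgroup (MulAut D)) (V : Subgroup D) : Prop where
  card : Nat.card V = 4
  inv : ∀ γ ∈ A, ∀ u ∈ V, γ u ∈ V
  fixall : ∀ γ ∈ A, ∀ u ∈ V, u ≠ 1 → γ u = u → ∀ v ∈ V, γ v = v
  orbit : ∀ u ∈ V, u ≠ 1 → Nat.card {w : D // ∃ γ ∈ A, γ u = w} = 3
  moves : ∃ γ ∈ A, (∀ v ∈ V, γ v = v) ∧ ∃ x, γ x * x⁻¹ ∉ V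

variable (hA : Nat.card A = 9)

theorem apply_comm (hA : Nat.card A = 9) {α β : MulAut D} (hα : α ∈ A) (hβ : β ∈ A) (u : D) :
    α (β u) = β (α u) := by
  haveI : Fact (Nat.Prime 3) := ⟨Nat.prime_three⟩
  have := (IsPGroup.commutative_of_card_eq_prime_sq (p := 3) (show Nat.card A = 3 ^ 2 from hA))
  exact DFunLike.congr_fun (congrArg Subtype.val (this ⟨α, hα⟩ ⟨β, hβ⟩)) u

include hD hA in
theorem not_fix_outside {V : Subgroup D} (hV : Nat.card V = 4) {γ : MulAut D} (hγ : γ ∈ A)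
    (hfix : ∀ v ∈ V, γ v = v) {w : D} (hw : w ∉ V) (hfw : γ w = w) : γ = 1 := by
  by_contra h1
  obtain ⟨δ, -, hδ1, hδ3, hδ⟩ := exists_cube hA hγ h1
  have hle : V ≤ fixSub δ := fun v hv => hδ v (hfix v hv)
  have hle4 : Nat.card (fixSub δ) ≤ 4 := by
    rcases card_fixSub hD hδ1 hδ3 with h | h <;> omega
  exact hw ((Subgroup.eq_of_le_of_card_ge hle (hV ▸ hle4)) ▸ hδ w hfw)

include hD hA hsq in
theorem half {β : MulAut D} (hβ : β ∈ A) (h1 : β ≠ 1) (h3 : β ^ 3 = 1) {u₀ : D} (hu₀ : u₀ ≠ 1)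
    (hf : β u₀ = u₀) : Half A (fixSub β) := by
  classical
  have hc := card_fixSub_eq_four hD h1 h3 hu₀ hf
  set V := fixSub β with hV
  have hinv : ∀ γ ∈ A, ∀ u ∈ V, γ u ∈ V := fun γ hγ u hu => by
    show β (γ u) = γ u
    rw [apply_comm hA hβ hγ, mem_fixSub.mp hu]
  have horbit : ∀ (K : Subgroup (MulAut D)), K ≤ A → ∀ u ∈ V, u ≠ 1 → ∀ s : Finset D,
      (∀ γ ∈ K, γ u ∈ s) → Nat.card {w : D // ∃ γ ∈ K, γ u = w} ∣ 9 ∧
        Nat.card {w : D // ∃ γ ∈ K, γ u = w} ≤ s.card := by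
    intro K hK u _ _ s hs
    have he : Nat.card {w : D // ∃ γ ∈ K, γ u = w} = Nat.card (MulAction.orbit K u) :=
      Nat.card_congr (Equiv.subtypeEquivRight fun w =>
        ⟨fun ⟨γ, hγ, h⟩ => ⟨⟨γ, hγ⟩, h⟩, fun ⟨γ, h⟩ => ⟨γ.1, γ.2, h⟩⟩)
    refine ⟨?_, ?_⟩
    · rw [he, ← hA]
      refine Dvd.dvd.trans ?_ (Subgroup.card_dvd_of_le hK)
      rw [Nat.card_congr (MulAction.orbitEquivQuotientStabilizer K u), ← Subgroup.index_eq_card]
      exact Subgroup.index_dvd_card _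
    · rw [← Fintype.card_coe, ← Nat.card_eq_fintype_card]
      refine Nat.card_le_card_of_injective
        (fun w => (⟨w.1, by obtain ⟨γ, hγ, h⟩ := w.2; exact h ▸ hs γ hγ⟩ : s))
        fun w w' h => Subtype.ext (congrArg Subtype.val h :)
  haveI := Fintype.ofFinite D
  have hne : ∀ γ : MulAut D, ∀ u : D, u ≠ 1 → γ u ≠ 1 := fun γ u hu h =>
    hu (γ.injective (h.trans (map_one γ).symm))
  set s : Finset D := (Finset.univ.filter fun u => u ∈ V).erase 1 with hs
  have hsc : s.card = 3 := by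
    rw [hs, Finset.card_erase_of_mem (by simp [one_mem]), ← Fintype.card_subtype,
      ← Nat.card_eq_fintype_card, hc]
  have hfixall : ∀ γ ∈ A, ∀ u ∈ V, u ≠ 1 → γ u = u → ∀ v ∈ V, γ v = v := by
    intro γ hγ u hu hu1 hγu v hv
    by_cases hv1 : v = 1
    · rw [hv1, map_one]
    by_cases hvu : v = u
    · rw [hvu, hγu]
    obtain ⟨hd, hle⟩ := horbit (Subgroup.zpowers γ) (Subgroup.zpowers_le.mpr hγ) v hv hv1
      (s.erase u) fun δ hδ => by
        have hδA := Subgroup.zpowers_le.mpr hγ hδ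
        have hδu : δ u = u := by
          obtain ⟨n, rfl⟩ := mem_powers_iff_mem_zpowers.mpr hδ
          exact pow_fix hγu n
        simp only [hs, Finset.mem_erase, Finset.mem_filter, Finset.mem_univ, true_and]
        exact ⟨fun h => hvu (δ.injective (h.trans hδu.symm)), hne δ v hv1, hinv δ hδA v hv⟩
    rw [Finset.card_erase_of_mem (by simp [hs, hu, hu1]), hsc] at hle
    have hc1 : Nat.card {w : D // ∃ δ ∈ Subgroup.zpowers γ, δ v = w} = 1 := by
      generalize Nat.card {w : D // ∃ δ ∈ Subgroup.zpowers γ, δ v = w} = n at hd hle ⊢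
      interval_cases n <;> simp_all
    haveI := (Nat.card_eq_one_iff_unique.mp hc1).1
    exact congrArg Subtype.val (Subsingleton.elim
      (⟨γ v, γ, Subgroup.mem_zpowers γ, rfl⟩ : {w : D // ∃ δ ∈ Subgroup.zpowers γ, δ v = w})
      ⟨v, 1, one_mem _, rfl⟩)
  refine ⟨hc, hinv, hfixall, fun u hu hu1 => ?_, β, hβ, fun v hv => hv, ?_⟩
  · obtain ⟨hd, hle⟩ := horbit A le_rfl u hu hu1 s fun γ hγ => by
      simp only [hs, Finset.mem_erase, Finset.mem_filter, Finset.mem_univ, true_and]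
      exact ⟨hne γ u hu1, hinv γ hγ u hu⟩
    rw [hsc] at hle
    have hne1 : Nat.card {w : D // ∃ γ ∈ A, γ u = w} ≠ 1 := by
      intro hc1
      haveI := (Nat.card_eq_one_iff_unique.mp hc1).1
      have hall : ∀ γ ∈ A, ∀ v ∈ V, γ v = v := fun γ hγ => hfixall γ hγ u hu hu1
        (congrArg Subtype.val (Subsingleton.elim
          (⟨γ u, γ, hγ, rfl⟩ : {w : D // ∃ δ ∈ A, δ u = w}) ⟨u, 1, one_mem _, rfl⟩))
      have h9 := nine_dvd_of_free hA ((V : Set D)ᶜ) (fun γ hγ w hw hm => hw (by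
        have := γ.injective (hall γ hγ _ hm)
        exact this ▸ hm)) fun γ hγ w hw h => not_fix_outside hD hA hc hγ (hall γ hγ) hw h
      rw [Nat.card_coe_set_eq, Set.ncard_compl, hD, ← Nat.card_coe_set_eq] at h9
      change 9 ∣ 16 - Nat.card V at h9
      rw [hc] at h9
      norm_num at h9
    generalize Nat.card {w : D // ∃ γ ∈ A, γ u = w} = n at hd hle hne1 ⊢
    interval_cases n <;> simp_all
  · by_contra hall
    simp only [not_exists, not_not] at hall
    refine h1 (MulEquiv.ext fun x => ?_)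
    obtain ⟨c, hcdef⟩ : ∃ c : D, c = β x * x⁻¹ := ⟨_, rfl⟩
    have hx : β x = c * x := by rw [hcdef, inv_mul_cancel_right]
    have hcf : β c = c := hcdef ▸ hall x
    have h := DFunLike.congr_fun h3 x
    rw [pow_succ, pow_two, MulAut.mul_apply, MulAut.mul_apply, MulAut.one_apply, hx, map_mul, hcf,
      hx, map_mul, map_mul, hcf, hx, ← mul_assoc, ← mul_assoc, ← pow_two, hsq, one_mul,
      mul_eq_right] at h
    rw [MulAut.one_apply, hx, h, one_mul]

/-- The two halves. -/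
structure Data (A : Subgroup (MulAut D)) (V W : Subgroup D) : Prop where
  left : Half A V
  right : Half A W
  disj : V ⊓ W = ⊥
  free : ∀ u, u ∉ V → u ∉ W → ∀ γ ∈ A, γ u = u → γ = 1
  trans : ∀ u, u ∉ V → u ∉ W → ∀ w, w ∉ V → w ∉ W → ∃ γ ∈ A, γ u = w

include hD hA hsq in
theorem exists_data : ∃ V W : Subgroup D, Data A V W := by
  classical
  haveI := Fintype.ofFinite D
  obtain ⟨u₀, hu₀, β₀, hβ₀, hβ₀1, hβ₀u⟩ :
      ∃ u : D, u ≠ 1 ∧ ∃ γ ∈ A, γ ≠ 1 ∧ γ u = u := by
    by_contra h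
    simp only [not_exists, not_and] at h
    have h9 := nine_dvd_of_free hA ({1}ᶜ : Set D)
      (fun γ _ u hu h1 => hu (γ.injective (h1.trans (map_one γ).symm)))
      fun γ hγ u hu hf => by_contra fun hne => h u hu γ hγ hne hf
    rw [Nat.card_coe_set_eq, Set.ncard_compl, hD, Set.ncard_singleton] at h9
    norm_num at h9
  obtain ⟨β, hβ, hβ1, hβ3, hβf⟩ := exists_cube hA hβ₀ hβ₀1
  have hV := half hD hsq hA hβ hβ1 hβ3 hu₀ (hβf u₀ hβ₀u)
  set V := fixSub β with hVdef
  obtain ⟨x, hx, α₀, hα₀, hα₀1, hα₀x⟩ : ∃ x : D, x ∉ V ∧ ∃ γ ∈ A, γ ≠ 1 ∧ γ x = x := by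
    by_contra h
    simp only [not_exists, not_and] at h
    have h9 := nine_dvd_of_free hA ((V : Set D)ᶜ) (fun γ hγ u hu hm => hu (by
      have := hV.inv γ⁻¹ (inv_mem hγ) _ hm
      simpa using this))
      fun γ hγ u hu hf => by_contra fun hne => h u hu γ hγ hne hf
    rw [Nat.card_coe_set_eq, Set.ncard_compl, hD, ← Nat.card_coe_set_eq] at h9
    change 9 ∣ 16 - Nat.card V at h9
    rw [hV.card] at h9
    norm_num at h9
  obtain ⟨α, hα, hα1, hα3, hαf⟩ := exists_cube hA hα₀ hα₀1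
  have hαx : α x = x := hαf x hα₀x
  have hW := half hD hsq hA hα hα1 hα3 (fun e : x = 1 => hx (e ▸ one_mem V)) hαx
  set W := fixSub α with hWdef
  have hdisj : V ⊓ W = ⊥ := by
    rw [Subgroup.eq_bot_iff_forall]
    intro u hu
    by_contra hu1
    exact hα1 (not_fix_outside hD hA hV.card hα (hV.fixall α hα u hu.1 hu1 hu.2) hx hαx)
  have hinj : Function.Injective fun q : V × W => (q.1 : D) * q.2 :=
    by
      have h : ∀ {x y : D}, x ∈ V → y ∈ W → x * y = 1 → x = 1 ∧ y = 1 :=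
        Subgroup.disjoint_iff_mul_eq_one.mp (disjoint_iff.mpr hdisj)
      intro a b hab
      have h1 : ((b.1⁻¹ * a.1 : V) : D) * ((a.2 * b.2⁻¹ : W) : D) = 1 := by
        have hab' : (a.1 : D) * a.2 = (b.1 : D) * b.2 := hab
        push_cast
        rw [mul_assoc, ← mul_assoc (a.1 : D), hab', mul_assoc, mul_inv_cancel, mul_one,
          inv_mul_cancel]
      obtain ⟨e1, e2⟩ := h (b.1⁻¹ * a.1 : V).2 (a.2 * b.2⁻¹ : W).2 h1
      push_cast at e1 e2
      exact Prod.ext (Subtype.ext (inv_mul_eq_one.mp e1).symm) (Subtype.ext (mul_inv_eq_one.mp e2))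
  have hbij : Function.Bijective fun q : V × W => (q.1 : D) * q.2 := by
    refine (Nat.bijective_iff_injective_and_card _).mpr ⟨hinj, ?_⟩
    rw [Nat.card_prod, hV.card, hW.card, hD]
  have hfree : ∀ u, u ∉ V → u ∉ W → ∀ γ ∈ A, γ u = u → γ = 1 := by
    intro u huV huW γ hγ hγu
    obtain ⟨⟨v, w⟩, h⟩ := hbij.2 u
    dsimp only at h
    subst h
    rw [map_mul] at hγu
    have heq := @hinj (⟨γ v, hV.inv γ hγ v v.2⟩, ⟨γ w, hW.inv γ hγ w w.2⟩) (v, w) hγu
    have hv : γ v = v := congrArg (fun q : V × W => (q.1 : D)) heq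
    have hw : γ w = w := congrArg (fun q : V × W => (q.2 : D)) heq
    have hv1 : (v : D) ≠ 1 := fun e => huW (by rw [e, one_mul]; exact w.2)
    have hw1 : (w : D) ≠ 1 := fun e => huV (by rw [e, mul_one]; exact v.2)
    refine MulEquiv.ext fun z => ?_
    obtain ⟨⟨v', w'⟩, rfl⟩ := hbij.2 z
    rw [MulAut.one_apply]
    dsimp only
    rw [map_mul, hV.fixall γ hγ v v.2 hv1 hv v' v'.2, hW.fixall γ hγ w w.2 hw1 hw w' w'.2]
  refine ⟨V, W, hV, hW, hdisj, hfree, fun u huV huW w hwV hwW => ?_⟩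
  -- the regular orbit
  set m : Finset D := Finset.univ.filter fun z => z ∉ V ∧ z ∉ W with hm
  haveI := Fintype.ofFinite A
  have hmc : m.card ≤ 9 := by
    have hsub : m ⊆ Finset.univ.image fun q : {v : V // v ≠ 1} × {w : W // w ≠ 1} =>
        (q.1.1 : D) * q.2.1 := by
      intro z hz
      obtain ⟨-, hzV, hzW⟩ := Finset.mem_filter.mp hz
      obtain ⟨⟨v, w⟩, rfl⟩ := hbij.2 z
      exact Finset.mem_image.mpr ⟨(⟨v, fun e => hzW (by simp [e])⟩,
        ⟨w, fun e => hzV (by simp [e])⟩), Finset.mem_univ _, rfl⟩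
    refine (Finset.card_le_card hsub).trans (Finset.card_image_le.trans ?_)
    rw [Finset.card_univ, Fintype.card_prod, Fintype.card_subtype_compl, Fintype.card_subtype_compl,
      Fintype.card_subtype_eq, Fintype.card_subtype_eq, ← Nat.card_eq_fintype_card,
      ← Nat.card_eq_fintype_card, hV.card, hW.card]
  have hinvm : ∀ γ ∈ A, γ u ∈ m := fun γ hγ => by
    refine Finset.mem_filter.mpr ⟨Finset.mem_univ _, fun h => huV ?_, fun h => huW ?_⟩
    · simpa using hV.inv γ⁻¹ (inv_mem hγ) _ h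
    · simpa using hW.inv γ⁻¹ (inv_mem hγ) _ h
  have horb : Function.Injective fun γ : A => γ.1 u := fun γ δ h => by
    refine Subtype.ext (inv_mul_eq_one.mp (hfree u huV huW _ (mul_mem (inv_mem δ.2) γ.2) ?_)).symm
    rw [MulAut.mul_apply, show γ.1 u = δ.1 u from h]
    exact MulEquiv.symm_apply_apply _ _
  have heq : Finset.univ.image (fun γ : A => γ.1 u) = m := Finset.eq_of_subset_of_card_le
    (fun z hz => by obtain ⟨γ, -, rfl⟩ := Finset.mem_image.mp hz; exact hinvm γ.1 γ.2)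
    (by rw [Finset.card_image_of_injective _ horb, Finset.card_univ, ← Nat.card_eq_fintype_card,
      hA]; exact hmc)
  have hwm : w ∈ Finset.univ.image (fun γ : A => γ.1 u) := by
    rw [heq]; simp [hm, hwV, hwW]
  obtain ⟨γ, -, h⟩ := Finset.mem_image.mp hwm
  exact ⟨γ.1, γ.2, h⟩

end Cfsg.Agent.Lib.ElemNine.Structure
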