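import Cfsg.Agent.Lib.StarChar.AbelianSection

/-!
# The trace of the contributions at any element of the defect group

The trace is `|E| |D|` times the rank of the local block over the length of the orbit.
-/

set_option autoImplicit false
set_option linter.style.haveILetI false
set_option linter.unusedSectionVars false

namespace Cfsg.Agent.Lib.ElemNine.Trace

open MonoidAlgebra
open scoped ComplexConjugate
open Cfsg.Agent.Lib.Blocks Cfsg.Agent.Lib.Blocks.Contrib Cfsg.Agent.Lib.Blocks.SectionPart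
open Cfsg.Agent.Lib.Blocks.SectionMatrix Cfsg.Agent.Lib.Blocks.SectionHeight
open Cfsg.Agent.Lib.Blocks.BlockPart
open Cfsg.Agent.Lib.BrauerPairs.Center Cfsg.Agent.Lib.BrauerPairs.Conj
open Cfsg.Agent.Lib.BrauerPairs.Pairs Cfsg.Agent.Lib.BrauerPairs.Transport
open Cfsg.Agent.Lib.BrauerPairs.Maximal Cfsg.Agent.Lib.BrauerPairs.Bridge
open Cfsg.Agent.Lib.BrauerPairs.Fusion Cfsg.Agent.Lib.BrauerPairs.Local
open Cfsg.Agent.Lib.BrauerPairs.SubsectionCount Cfsg.Agent.Lib.BrauerPairs.Abelian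
open Cfsg.Agent.Lib.StarChar Cfsg.Agent.Lib.StarChar.Equiv Cfsg.Agent.Lib.StarChar.Comp
open Cfsg.Agent.Lib.StarChar.Section Cfsg.Agent.Lib.StarChar.AbelianSection
open Cfsg.Agent.Lib.StarChar.NilpotentPairing (phiSum phiSum_eq blkAt le_blkAt)
open Cfsg.Agent.Lib.StarChar.AbelianPairing
open Cfsg.Agent.Lib.Characters.Basic

universe u

attribute [local instance] Ideal.Quotient.field

variable {M : Ideal Cfsg.AlgInt} [M.IsMaximal] {G : Type u} [Group G] [Fintype G]
  {p : ℕ} [Fact p.Prime] [CharP (Res M) p]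

local notation "C[" P "]" => Subgroup.centralizer ((P : Subgroup G) : Set G)

variable {b : Idx (Res M) G} {ψ : Blk (Res M) G}

/-- The trace at any element. -/
theorem sum_gram_rank (hM : Cfsg.IsPModular p M) (hb : Top p b) (hψ : PairOf p ψ b) (u : b.1) :
    ∑ χ ∈ bset (toSet ψ), gram hb χ χ u =
      (Nat.card (autHom b).range : ℂ) * (Nat.card b.1 : ℂ) *
        ((Cfsg.blockRank p (toSet (blkAt hb.1 u)) : ℂ) /
          (Nat.card {w : b.1 // Rel b u w} : ℂ)) := by
  classical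
  haveI := Fintype.ofFinite C[Subgroup.zpowers (u : G)]
  haveI := Fintype.ofFinite (Cfsg.IrrCharacter G)
  haveI := Fintype.ofFinite (Cfsg.IrrCharacter C[Subgroup.zpowers (u : G)])
  set q : G := (u : G)
  set ω := blkAt hb.1 u with hω
  have hq : ∃ k : ℕ, orderOf q = p ^ k := by
    obtain ⟨k, hk⟩ := IsPGroup.iff_orderOf.mp hb.1 u
    exact ⟨k, by rw [← hk, Subgroup.orderOf_coe]⟩
  have hmain := Cfsg.Agent.Lib.Blocks.SectionPart.sum_regular_blockPart_mul hM hq rfl
    (isPBlock_toSet ω) (G := G)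
  have e : ∀ χ : Cfsg.IrrCharacter G, ∑ s : C[Subgroup.zpowers q],
      Cfsg.pRegularPart p (Cfsg.blockPart (toSet ω) (sect q C[Subgroup.zpowers q] (χ : G → ℂ))) s *
        Cfsg.blockPart (toSet ω) (sect q⁻¹ C[Subgroup.zpowers q] (χ : G → ℂ)) s⁻¹ =
      phiSum p χ χ q ω := by
    intro χ
    rw [phiSum_eq]
    refine Finset.sum_congr rfl fun s _ => ?_
    rw [pRegularPart_apply, ite_mul, zero_mul]
    split_ifs with hs
    · rfl
    congr 1
    rw [phi, blockPart_apply, blockPart_apply, map_sum]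
    refine Finset.sum_congr rfl fun θ _ => ?_
    rw [map_mul, ← apply_inv (isCharacter_irr θ)]
    congr 1
    rw [Cfsg.classInner, Cfsg.classInner, map_mul, map_inv₀, map_natCast, map_sum]
    congr 1
    refine Fintype.sum_equiv (Equiv.inv _) _ _ fun c => ?_
    have hcomm : Commute q (c : G) := commute_section _ c.2
    simp only [Equiv.inv_apply, sect_apply, map_mul, Complex.conj_conj]
    rw [← apply_inv (isCharacter_irr χ), InvMemClass.coe_inv, mul_inv_rev, inv_inv,
      hcomm.inv_left.eq, apply_inv (isCharacter_irr θ)]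
  rw [Finset.sum_congr rfl fun χ _ => e χ] at hmain
  have hz : ∀ χ : Cfsg.IrrCharacter G, χ ∉ bset (toSet ψ) → phiSum p χ χ q ω = 0 := by
    intro χ hχ
    refine NilpotentPairing.phiSum_eq_zero χ χ hM hq ω fun h => hχ (mem_bset.mpr (mem_toSet.mpr ?_))
    obtain ⟨ψ', -, huniq⟩ := existsUnique_pairOf (⟨Subgroup.zpowers q, ω⟩ : Idx (Res M) G)
      (isPGroup_of_orderOf hq)
    exact (huniq _ h).trans
      (huniq _ ((pairOf_iff_of_le hb.1 (le_blkAt hb.1 u) _).mpr hψ)).symm
  rw [← Finset.sum_subset (Finset.subset_univ _) fun χ _ h => hz χ h] at hmain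
  simp only [gram, wt]
  rw [← Finset.mul_sum, ← Finset.mul_sum, hmain]
  have hC : (Nat.card C[Subgroup.zpowers (u : G)] : ℂ) ≠ 0 :=
    Nat.cast_ne_zero.mpr Nat.card_pos.ne'
  have hR : (Nat.card {w : b.1 // Rel b u w} : ℂ) ≠ 0 :=
    Nat.cast_ne_zero.mpr (Nat.card_pos_iff.mpr ⟨⟨⟨u, rel_refl u⟩⟩, inferInstance⟩).ne'
  field_simp
  rfl

end Cfsg.Agent.Lib.ElemNine.Trace
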