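import Cfsg.Agent.Lib.ElemNine.Combi
import Cfsg.Agent.Lib.ElemNine.Structure
import Cfsg.Agent.Lib.ElemNine.Local
import Cfsg.Agent.Lib.ElemNine.Trace
import Cfsg.Agent.Lib.HomocyclicFree.Fourier
import Cfsg.Agent.Lib.OneSection.Abelian

/-!
# Principal 2-blocks with elementary abelian Sylow subgroup of order 16 and inertial index nine

For the invariant functions `f = 4 [u ∉ W]` and `f' = 4 [u ∉ V]` the star products of the
characters give integral symmetric matrices with the square four times themselves, whose product is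
the contribution at the regular orbit; `Combi` leaves sixteen characters.
-/

set_option autoImplicit false
set_option linter.style.haveILetI false
set_option linter.unusedSectionVars false
set_option maxHeartbeats 1000000

namespace Cfsg.Agent.Lib.ElemNine.Block

open MonoidAlgebra
open scoped ComplexConjugate
open Cfsg.Agent.Lib.Blocks Cfsg.Agent.Lib.Blocks.Contrib Cfsg.Agent.Lib.Blocks.SectionMatrix
open Cfsg.Agent.Lib.BrauerPairs.Center Cfsg.Agent.Lib.BrauerPairs.Pairs
open Cfsg.Agent.Lib.BrauerPairs.Maximal Cfsg.Agent.Lib.BrauerPairs.Bridge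
open Cfsg.Agent.Lib.BrauerPairs.Fusion Cfsg.Agent.Lib.BrauerPairs.Local
open Cfsg.Agent.Lib.BrauerPairs.Principal
open Cfsg.Agent.Lib.StarChar.Comp Cfsg.Agent.Lib.StarChar.Section
open Cfsg.Agent.Lib.StarChar.NilpotentPairing (blkAt phiSum phiSum_eq)
open Cfsg.Agent.Lib.StarChar.AbelianPairing Cfsg.Agent.Lib.StarChar.AbelianSection
open Cfsg.Agent.Lib.Characters.Basic

universe u

attribute [local instance] Ideal.Quotient.field

variable {M : Ideal Cfsg.AlgInt} [M.IsMaximal] {G : Type u} [Group G] [Fintype G]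

local notation "C[" P "]" => Subgroup.centralizer ((P : Subgroup G) : Set G)

/-- `4 [u ∈ W]` is a character when `W` has index four. -/
theorem isCharacter_ind {D : Type u} [CommGroup D] [Finite D] (W : Subgroup D)
    [DecidablePred (· ∈ W)] (hW : W.index = 4) :
    Cfsg.IsCharacter D fun u => if u ∈ W then (4 : ℂ) else 0 := by
  classical
  haveI := Fintype.ofFinite (D ⧸ W)
  have := Monoid.neZero_exponent_of_finite (G := D ⧸ W)
  haveI : Finite ((D ⧸ W) →* ℂˣ) := Nat.finite_of_card_ne_zero
    (by rw [CommGroup.card_monoidHom_of_hasEnoughRootsOfUnity]; exact Nat.card_pos.ne')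
  haveI := Fintype.ofFinite ((D ⧸ W) →* ℂˣ)
  have h := isCharacter_sum (G := D) (Finset.univ : Finset ((D ⧸ W) →* ℂˣ))
    (f := fun l u => ((l (QuotientGroup.mk u) : ℂˣ) : ℂ)) fun l _ =>
      Cfsg.Agent.Lib.Brauer.Elementary.isCharacter_hom
        ((Units.coeHom ℂ).comp (l.comp (QuotientGroup.mk' W)))
  convert h using 1
  funext u
  rw [Finset.sum_apply, HomocyclicFree.Fourier.sum_dual]
  by_cases hu : u ∈ W
  · rw [if_pos hu, if_pos ((QuotientGroup.eq_one_iff u).mpr hu), ← Nat.card_eq_fintype_card,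
      ← Subgroup.index_eq_card, hW]
    norm_num
  · rw [if_neg hu, if_neg fun h => hu ((QuotientGroup.eq_one_iff u).mp h)]

/-- Two class functions through their coefficients. -/
theorem classInner_eq_sum [Fintype (Cfsg.IrrCharacter G)] {Θ Θ' : G → ℂ}
    (hΘ : Cfsg.IsClassFunction G Θ) : Cfsg.classInner Θ Θ' =
      ∑ φ : Cfsg.IrrCharacter G, Cfsg.classInner Θ φ * conj (Cfsg.classInner Θ' φ) := by
  conv_lhs => arg 1; rw [Characters.Complete.classFunction_eq_sum hΘ]
  rw [classInner_sum_left]
  refine Finset.sum_congr rfl fun φ _ => ?_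
  rw [Induced.Basic.classInner_smul_left, ← Induced.Basic.classInner_conj_symm Θ' (φ : G → ℂ)]

/-- The trivial character gives rank at least one. -/
theorem one_le_blockRank {p : ℕ} [Fact p.Prime] :
    1 ≤ Cfsg.blockRank p (Cfsg.principalBlock M G) := by
  set S := Submodule.span ℂ ((fun ξ : Cfsg.IrrCharacter G =>
    Cfsg.pRegularPart p (ξ : G → ℂ)) '' Cfsg.principalBlock M G)
  have hv : Cfsg.pRegularPart p (oneChar G : G → ℂ) ∈ S := Submodule.subset_span
    ⟨_, oneChar_mem_principalBlock, rfl⟩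
  refine Nat.one_le_iff_ne_zero.mpr fun h => ?_
  have h0 : S = ⊥ := Submodule.finrank_eq_zero.mp h
  rw [h0, Submodule.mem_bot] at hv
  have := congrFun hv 1
  rw [pRegularPart_apply, if_neg (by simp [(Fact.out : p.Prime).ne_one])] at this
  exact one_ne_zero (α := ℂ) this

variable [Fact (Nat.Prime 2)] [CharP (Res M) 2]

/-- The counts. -/
theorem invariants (hM : Cfsg.IsPModular 2 M) (P : Sylow 2 G) (hcard : Nat.card P = 16)
    (hsq : ∀ x ∈ P, x ^ 2 = 1)
    (he : C[(P : Subgroup G)].relIndex (Subgroup.normalizer ((P : Subgroup G) : Set G)) = 9) :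
    Nat.card (Cfsg.principalBlock M G) = 16 ∧
      Cfsg.blockRank 2 (Cfsg.principalBlock M G) = 9 := by
  classical
  set ψ : Blk (Res M) G := princ (Res M) G with hψdef
  set b : Idx (Res M) G := ⟨(P : Subgroup G), princ (Res M) C[(P : Subgroup G)]⟩ with hbdef
  have hb : Top 2 b := top_princ P
  have hψ : PairOf 2 ψ b := pairOf_princ P.2
  have hab : ∀ x ∈ b.1, ∀ y ∈ b.1, x * y = y * x := Local.commute_of_sq hsq
  letI : CommGroup b.1 :=
    { (inferInstance : Group b.1) with mul_comm := fun a c => Subtype.ext (hab a a.2 c c.2) }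
  haveI := Fintype.ofFinite b.1
  haveI := Fintype.ofFinite (Cfsg.IrrCharacter G)
  have hN : stab b = Subgroup.normalizer ((P : Subgroup G) : Set G) :=
    le_antisymm (stab_le_normalizer b) fun g hg => Local.mem_stab_princ hg
  have hA : Nat.card (autHom b).range = 9 := by
    rw [← Subgroup.index_ker, autHom_ker, ← Subgroup.relIndex, hN]; exact he
  have hD : Nat.card b.1 = 16 := hcard
  have hsqD : ∀ u : b.1, u ^ 2 = 1 := fun u => Subtype.ext (hsq u u.2)
  obtain ⟨V, W, hdat⟩ := Structure.exists_data hD hsqD hA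
  set B := Cfsg.principalBlock M G with hBdef
  have htoSet : toSet ψ = B := Local.toSet_princ
  have hB : Cfsg.IsPBlock M B := Cfsg.Agent.Lib.BrauerPairs.Bridge.isPBlock_principalBlock
  have hblk : ∀ {χ : Cfsg.IrrCharacter G}, χ ∈ B → blkOf M χ = ψ := fun h =>
    mem_toSet.mp (htoSet.symm ▸ h)
  set l : ℕ := Cfsg.blockRank 2 B with hl
  -- local ranks on the two four groups
  have hrank3 : ∀ V : Subgroup b.1, Structure.Half (autHom b).range V → ∀ u ∈ V, u ≠ 1 →
      Cfsg.blockRank 2 (toSet (blkAt hb.1 u)) = 3 := by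
    intro V hV u hu hu1
    rw [Local.blkAt_princ P hb.1 u, Local.toSet_princ]
    have hle : (P : Subgroup G) ≤ C[Subgroup.zpowers (u : G)] :=
      BrauerPairs.SubsectionCount.le_centralizer_zpowers hab u.2
    have hQle : V.map (P : Subgroup G).subtype ≤ (P : Subgroup G) := Subgroup.map_subtype_le V
    refine Local.rank_eq_three hM (P := P.subtype hle)
      (Q := (V.map (P : Subgroup G).subtype).subgroupOf C[Subgroup.zpowers (u : G)])
      ⟨?_, ?_, ?_, ?_, ?_, ?_⟩
    · exact (Nat.card_congr (Subgroup.subgroupOfEquivOfLe hle).toEquiv).trans hcard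
    · exact fun x hx => Subtype.ext (hsq x hx)
    · exact fun x hx => hQle hx
    · refine (Nat.card_congr (Subgroup.subgroupOfEquivOfLe (hQle.trans hle)).toEquiv).trans ?_
      rw [Subgroup.card_map_of_injective (P : Subgroup G).subtype_injective, hV.card]
    · rintro t ht q ⟨v, hv, hq⟩
      have htN : (t : G) ∈ stab b := hN ▸ Local.mem_normalizer_of_subtype hle ht
      have hfix := hV.fixall _ ⟨⟨t, htN⟩, rfl⟩ u hu hu1 (Subtype.ext (by
        rw [autHom_apply]
        show (t : G) * (u : G) * (t : G)⁻¹ = (u : G)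
        rw [mul_inv_eq_iff_eq_mul]
        exact (Subgroup.mem_centralizer_iff.mp t.2 _ (Subgroup.mem_zpowers (u : G))).symm)) v hv
      have h := congrArg (fun z : b.1 => (z : G)) hfix
      rw [autHom_apply] at h
      have hq' : ((v : b.1) : G) = (q : G) := hq
      rw [hq'] at h
      exact Subtype.ext h
    · obtain ⟨_, ⟨t, rfl⟩, hfix, x, hx⟩ := hV.moves
      have htH : (t : G) ∈ C[Subgroup.zpowers (u : G)] := by
        rw [BrauerMap.PrincipalSection.centralizer_zpowers_eq,
          Subgroup.mem_centralizer_singleton_iff]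
        have h := congrArg (fun z : b.1 => (z : G)) (hfix u hu)
        rw [autHom_apply] at h
        exact mul_inv_eq_iff_eq_mul.mp h
      refine ⟨⟨t, htH⟩, ?_, ⟨x, hle x.2⟩, x.2, ?_⟩
      · rw [Subgroup.mem_normalizer_iff]
        intro y
        exact Subgroup.mem_normalizer_iff.mp (hN ▸ t.2 : (t : G) ∈ _) y
      · rintro ⟨v, hv, hvx⟩
        refine hx ?_
        have e : autHom b t x * x⁻¹ = v := by
          refine Subtype.ext (Eq.trans ?_ hvx.symm)
          rw [Subgroup.coe_mul, autHom_apply]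
          rfl
        rw [e]
        exact hv
  -- the functions
  have hmemiff : ∀ V : Subgroup b.1, Structure.Half (autHom b).range V →
      ∀ α ∈ (autHom b).range, ∀ u, (α u ∈ V ↔ u ∈ V) := fun V hV α hα u =>
    ⟨fun h => by simpa using hV.inv α⁻¹ (inv_mem hα) _ h, hV.inv α hα u⟩
  let ρ : Subgroup b.1 → b.1 → ℂ := fun U u => if u ∈ U then 4 else 0
  let f : Subgroup b.1 → b.1 → ℂ := fun U u => if u ∈ U then 0 else 4
  have hρinv : ∀ {U}, Structure.Half (autHom b).range U → Inv b (ρ U) := fun hU α hα u =>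
    if_congr (hmemiff _ hU α hα u) rfl rfl
  have hfinv : ∀ {U}, Structure.Half (autHom b).range U → Inv b (f U) := fun hU α hα u =>
    if_congr (hmemiff _ hU α hα u) rfl rfl
  let ff : b.1 → ℂ := fun u => f W u * f V u
  have hffinv : Inv b ff := fun α hα u => by
    simp only [ff, hfinv hdat.left α hα u, hfinv hdat.right α hα u]
  let A : (b.1 → ℂ) → Cfsg.IrrCharacter G → Cfsg.IrrCharacter G → ℂ := fun ζ χ χ' =>
    (144 : ℂ)⁻¹ * ∑ u, gram hb χ χ' u * ζ u
  have hAdd : ∀ ζ ξ χ χ' (a c : ℂ), A (fun u => a * ζ u + c * ξ u) χ χ' =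
      a * A ζ χ χ' + c * A ξ χ χ' := fun ζ ξ χ χ' a c => by
    simp only [A]
    simp only [Finset.mul_sum, ← Finset.sum_add_distrib]
    exact Finset.sum_congr rfl fun u _ => by ring
  -- symmetry of the contributions
  have hconj : ∀ (χ χ' : Cfsg.IrrCharacter G) (u : b.1),
      gram hb χ' χ u = conj (gram hb χ χ' u) := fun χ χ' u => by
    simp only [gram, wt, phiSum_eq, map_mul, map_inv₀, map_natCast, map_sum,
      apply_ite conj, map_zero, Complex.conj_conj]
    simp only [mul_comm (conj (phi (χ : G → ℂ) _ _ _))]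
  have hout : ∀ χ : Cfsg.IrrCharacter G, ∀ φ ∉ B, ∀ u : b.1, gram hb χ φ u = 0 := by
    intro χ φ hφ u
    have hq : ∃ k : ℕ, orderOf (u : G) = 2 ^ k := by
      obtain ⟨k, hk⟩ := IsPGroup.iff_orderOf.mp hb.1 u
      exact ⟨k, by rw [← hk, Subgroup.orderOf_coe]⟩
    have h0 : gram hb φ χ u = 0 := by
      rw [gram, StarChar.NilpotentPairing.phiSum_eq_zero φ χ hM hq (blkAt hb.1 u) fun h =>
        hφ ?_, mul_zero, mul_zero]
      rw [← htoSet, mem_toSet]
      obtain ⟨ψ', -, huniq⟩ := existsUnique_pairOf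
        (⟨Subgroup.zpowers (u : G), blkAt hb.1 u⟩ : Idx (Res M) G)
        (hb.1.to_le (Subgroup.zpowers_le.mpr u.2))
      exact (huniq _ h).trans (huniq _
        ((pairOf_iff_of_le hb.1 (StarChar.NilpotentPairing.le_blkAt hb.1 u) _).mpr hψ)).symm
    rw [hconj, h0, map_zero]
  have hip : ∀ {ζ : b.1 → ℂ}, Inv b ζ → ∀ χ ∈ B, ∀ φ : Cfsg.IrrCharacter G,
      Cfsg.classInner (starFn χ (fz 2 b ζ) 2) (φ : G → ℂ) = A ζ χ φ := by
    intro ζ hζ χ hχ φ
    have h := classInner_star_gram hb hψ hab hM (hblk hχ) φ hζ inv_one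
    rw [star_const, hA, hD] at h
    simp only [Pi.one_apply, map_one, mul_one] at h
    simp only [A]
    rw [← h]
    norm_num
    ring
  haveI := Fintype.ofFinite B
  have hmul : ∀ {ζ ξ : b.1 → ℂ}, Inv b ζ → Inv b ξ → (∀ u, conj (ξ u) = ξ u) → ∀ χ χ' : B,
      ∑ φ : B, A ζ χ φ * conj (A ξ χ' φ) = A (fun u => ζ u * ξ u) χ χ' := by
    intro ζ ξ hζ hξ hreal χ χ'
    have h := classInner_star_gram hb hψ hab hM (hblk χ.2) χ'.1 hζ hξ
    rw [classInner_eq_sum (star_classFunction _ _ (fz_isInv hb hψ hab hζ)), hA, hD] at h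
    simp only [hip hζ χ.1 χ.2, hip hξ χ'.1 χ'.2, hreal] at h
    rw [← Finset.sum_subset (Finset.subset_univ (bset B)) fun φ _ hφ => by
        simp only [A, hout _ φ (fun h => hφ (mem_bset.mpr h)), zero_mul, Finset.sum_const_zero,
          mul_zero],
      Finset.sum_subtype (bset B) (fun φ => mem_bset)] at h
    have h144 : (9 : ℂ) * 16 = 144 := by norm_num
    push_cast at h
    rw [h144] at h
    show _ = (144 : ℂ)⁻¹ * _
    rw [← h]
    exact (inv_mul_cancel_left₀ (by norm_num) _).symm
  -- integrality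
  have hidxU : ∀ {U}, Structure.Half (autHom b).range U → U.index = 4 := fun {U} hU => by
    have h1 := U.card_mul_index
    rw [hU.card, hD] at h1
    omega
  have hint : ∀ {U}, Structure.Half (autHom b).range U → ∀ χ χ' : B,
      ∃ n : ℤ, A (f U) χ χ' = n := by
    intro U hU χ χ'
    have hχ' : Cfsg.IsGeneralizedCharacter G (χ'.1 : G → ℂ) :=
      ⟨_, 0, isCharacter_irr χ'.1, isCharacter_zero, (sub_zero _).symm⟩
    obtain ⟨n, hn⟩ := StarChar.Nilpotent.exists_int_classInner
      (isGeneralized_star χ.1 _ hM (fz_isInv hb hψ hab (hρinv hU))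
        (fz_isCoherent hb hψ hab (isCharacter_ind U (hidxU hU)) (hρinv hU))) hχ'
    obtain ⟨i, hi⟩ := StarChar.Nilpotent.exists_int_classInner
      (⟨_, 0, isCharacter_irr χ.1, isCharacter_zero, (sub_zero _).symm⟩ :
        Cfsg.IsGeneralizedCharacter G (χ.1 : G → ℂ)) hχ'
    refine ⟨4 * i - n, ?_⟩
    rw [hip (hρinv hU) χ.1 χ.2] at hn
    have h1 := hip (inv_one (b := b)) χ.1 χ.2 χ'.1
    rw [star_const, hi] at h1
    have e : f U = fun u => 4 * (1 : b.1 → ℂ) u + (-1) * ρ U u := funext fun u => by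
      simp only [f, ρ, Pi.one_apply]
      split_ifs <;> norm_num
    rw [e, hAdd, ← h1, show A (ρ U) χ.1 χ'.1 = (n : ℂ) from hn]
    push_cast
    ring
  choose S hS using fun χ χ' => hint hdat.right χ χ'
  choose T hT using fun χ χ' => hint hdat.left χ χ'
  have hfreal : ∀ U u, conj (f U u) = f U u := fun U u => by
    simp only [f]; split_ifs <;> simp [map_ofNat]
  have hffreal : ∀ u, conj (ff u) = ff u := fun u => by simp only [ff, map_mul, hfreal]
  have hsymA : ∀ {ζ : b.1 → ℂ}, (∀ u, conj (ζ u) = ζ u) → ∀ χ χ',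
      A ζ χ' χ = conj (A ζ χ χ') := fun hreal χ χ' => by
    simp only [A, map_mul, map_inv₀, map_ofNat, map_sum, hreal, ← hconj χ χ']
  have hSs : ∀ r s, S r s = S s r := fun r s => by
    have h := hsymA (hfreal W) s.1 r.1
    rw [hS, hS, map_intCast] at h
    exact_mod_cast h
  have hTs : ∀ r s, T r s = T s r := fun r s => by
    have h := hsymA (hfreal V) s.1 r.1
    rw [hT, hT, map_intCast] at h
    exact_mod_cast h
  have hf2 : ∀ U u, f U u * f U u = 4 * f U u := fun U u => by
    simp only [f]; split_ifs <;> norm_num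
  have hS2 : ∀ r t, ∑ s, S r s * S s t = 4 * S r t := fun r t => by
    have h := hmul (hfinv hdat.right) (hfinv hdat.right) (hfreal W) r t
    rw [show (fun u => f W u * f W u) = fun u => 4 * f W u + 0 * f W u from
      funext fun u => by rw [hf2]; ring, hAdd, zero_mul, add_zero] at h
    simp only [hS, map_intCast, hSs t] at h
    exact_mod_cast h
  have hT2 : ∀ r t, ∑ s, T r s * T s t = 4 * T r t := fun r t => by
    have h := hmul (hfinv hdat.left) (hfinv hdat.left) (hfreal V) r t
    rw [show (fun u => f V u * f V u) = fun u => 4 * f V u + 0 * f V u from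
      funext fun u => by rw [hf2]; ring, hAdd, zero_mul, add_zero] at h
    simp only [hT, map_intCast, hTs t] at h
    exact_mod_cast h
  let X : B → B → ℤ := fun r t => ∑ s, S r s * T s t
  have hX : ∀ r t : B, A ff r t = (X r t : ℂ) := fun r t => by
    have h := hmul (hfinv hdat.right) (hfinv hdat.left) (hfreal V) r t
    simp only [hS, hT, map_intCast, hTs t] at h
    show A (fun u => f W u * f V u) _ _ = _
    rw [← h]
    simp only [X]
    push_cast
    rfl
  have hXs : ∀ r t, X r t = X t r := fun r t => by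
    have h := hsymA hffreal t.1 r.1
    rw [hX, hX, map_intCast] at h
    exact_mod_cast h
  have hX2 : ∀ r t, ∑ s, X r s * X s t = 16 * X r t := fun r t => by
    have h := hmul hffinv hffinv hffreal r t
    rw [show (fun u => ff u * ff u) = fun u => 16 * ff u + 0 * ff u from funext fun u => by
      show f W u * f V u * (f W u * f V u) = _
      rw [mul_mul_mul_comm, hf2, hf2]; simp only [ff]; ring, hAdd, zero_mul, add_zero] at h
    simp only [hX, map_intCast, hXs t] at h
    exact_mod_cast h
  -- a point of the regular orbit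
  obtain ⟨v, hvV, hv1⟩ : ∃ v ∈ V, v ≠ (1 : b.1) := by
    by_contra h
    simp only [not_exists, not_and, not_not] at h
    have h4 := hdat.left.card
    rw [(Subgroup.eq_bot_iff_forall V).mpr h, Subgroup.card_bot] at h4
    omega
  obtain ⟨w, hwW, hw1⟩ : ∃ w ∈ W, w ≠ (1 : b.1) := by
    by_contra h
    simp only [not_exists, not_and, not_not] at h
    have h4 := hdat.right.card
    rw [(Subgroup.eq_bot_iff_forall W).mpr h, Subgroup.card_bot] at h4
    omega
  have hboth : ∀ u : b.1, u ∈ V → u ∈ W → u = 1 := fun u h1 h2 =>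
    Subgroup.mem_bot.mp (hdat.disj ▸ Subgroup.mem_inf.mpr ⟨h1, h2⟩)
  set u₀ := v * w with hu₀
  have hu₀V : u₀ ∉ V := fun h => hw1 (hboth w ((mul_mem_cancel_left hvV).mp h) hwW)
  have hu₀W : u₀ ∉ W := fun h => hv1 (hboth v hvV ((mul_mem_cancel_right hwW).mp h))
  have hfree₀ : ∀ α ∈ (autHom b).range, α u₀ = u₀ → α = 1 := hdat.free u₀ hu₀V hu₀W
  -- sums of indicators
  have hind : ∀ U : Subgroup b.1, ∑ u : b.1, (if u ∈ U then (1 : ℂ) else 0) = Nat.card U :=
    fun U => by
      rw [Finset.sum_boole, Nat.card_eq_fintype_card, Fintype.card_subtype]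
  have hone : ∑ u : b.1, (if u = 1 then (1 : ℂ) else 0) = 1 := by simp
  have hDc : (Fintype.card b.1 : ℂ) = 16 := by rw [← Nat.card_eq_fintype_card, hD]; norm_num
  have hsumff : ∀ r t : B, A ff r t = gram hb r.1 t.1 u₀ := by
    intro r t
    have e : ∀ u, gram hb r.1 t.1 u * ff u = gram hb r.1 t.1 u₀ *
        (16 * 1 + (-16) * (if u ∈ V then 1 else 0) + (-16) * (if u ∈ W then 1 else 0) +
          16 * (if u = 1 then 1 else 0)) := by
      intro u
      by_cases h1 : u ∈ V <;> by_cases h2 : u ∈ W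
      · obtain rfl := hboth u h1 h2
        simp [ff, f, h1]
      · simp [ff, f, h1, h2, show u ≠ 1 from fun e => h2 (e ▸ one_mem W)]
      · simp [ff, f, h1, h2, show u ≠ 1 from fun e => h1 (e ▸ one_mem V)]
      · obtain ⟨α, hα, rfl⟩ := hdat.trans u₀ hu₀V hu₀W u h1 h2
        rw [gram_inv hb hab r.1 t.1 α hα u₀]
        simp [ff, f, h1, h2, show α u₀ ≠ 1 from fun e => h1 (e ▸ one_mem V)]
        norm_num
    simp only [A]
    rw [Finset.sum_congr rfl fun u _ => e u, ← Finset.mul_sum]
    simp only [Finset.sum_add_distrib, ← Finset.mul_sum, hind, hone, Finset.sum_const,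
      Finset.card_univ, nsmul_eq_mul, mul_one, hdat.left.card, hdat.right.card, hDc]
    push_cast
    ring
  choose g hgpos hg using fun (r : B) u => exists_pos hb hψ hab hM (hblk r.2) u
  have hXpos : ∀ r, 1 ≤ X r r := fun r => by
    have h := (hX r r).symm.trans ((hsumff r r).trans (hg r u₀))
    have h' : (X r r : ℝ) = g r u₀ := by exact_mod_cast h
    have : (0 : ℝ) < (X r r : ℝ) := h' ▸ hgpos r u₀
    exact_mod_cast this
  have hXsq : ∀ r t, X r t * X r t = X r r * X t t := fun r t => by
    have h := gram_mul_gram hb hψ hab hM (hblk r.2) t.1 u₀ hfree₀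
    simp only [← hsumff, hX, map_intCast] at h
    exact_mod_cast h
  -- the traces
  have htrV : ∀ U : Subgroup b.1, Structure.Half (autHom b).range U → ∀ u ∈ U, u ≠ 1 →
      ∑ χ : B, gram hb χ.1 χ.1 u = 144 := fun U hU u hu hu1 => by
    rw [← Finset.sum_subtype (bset B) (fun φ => mem_bset) fun χ => gram hb χ χ u, ← htoSet,
      Trace.sum_gram_rank hM hb hψ u, hA, hD, hrank3 U hU u hu hu1,
      show Nat.card {w : b.1 // Rel b u w} = 3 from hU.orbit u hu hu1]
    norm_num
  have htr0 : ∀ u : b.1, u ∉ V → u ∉ W → ∑ χ : B, gram hb χ.1 χ.1 u = 16 := fun u h1 h2 => by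
    rw [← Finset.sum_subtype (bset B) (fun φ => mem_bset) fun χ => gram hb χ χ u, ← htoSet,
      sum_gram hb hψ hab hM u (hdat.free u h1 h2), hD]
    norm_num
  have htr1 : ∑ χ : B, gram hb χ.1 χ.1 1 = 144 * (l : ℂ) := by
    rw [← Finset.sum_subtype (bset B) (fun φ => mem_bset) fun χ => gram hb χ χ 1,
      Finset.sum_congr rfl fun χ hχ => gram_one hb hψ hab hM (hblk (mem_bset.mp hχ)) χ,
      ← Finset.sum_div, ← Finset.mul_sum, ← Int.cast_sum, sum_contribN_self hM hB, hA, hD]
    push_cast
    field_simp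
    ring
  have htrace : ∀ U U' : Subgroup b.1, Structure.Half (autHom b).range U' →
      (∀ u, u ∈ U → u ∈ U' → u = 1) → Nat.card U = 4 →
      (∀ u, u ∉ U → u ∉ U' → ∑ χ : B, gram hb χ.1 χ.1 u = 16) →
      ∑ r : B, A (f U) r r = 16 := by
    intro U U' hU' hdis hUc h0
    simp only [A]
    rw [← Finset.mul_sum, Finset.sum_comm]
    have e : ∀ u : b.1, ∑ χ : B, gram hb χ.1 χ.1 u * f U u =
        64 * 1 + (-64) * (if u ∈ U then 1 else 0) + 512 * (if u ∈ U' then 1 else 0) +
          (-512) * (if u = 1 then 1 else 0) := fun u => by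
      rw [← Finset.sum_mul]
      by_cases h1 : u ∈ U <;> by_cases h2 : u ∈ U'
      · obtain rfl := hdis u h1 h2
        simp [f, h1]
      · simp [f, h1, h2, show u ≠ 1 from fun e => h2 (e ▸ one_mem U')]
      · have hu1 : u ≠ 1 := fun e => h1 (e ▸ one_mem U)
        rw [htrV U' hU' u h2 hu1]
        simp [f, h1, h2, hu1]
        norm_num
      · rw [h0 u h1 h2]
        simp [f, h1, h2, show u ≠ 1 from fun e => h1 (e ▸ one_mem U)]
        norm_num
    rw [Finset.sum_congr rfl fun u _ => e u]
    simp only [Finset.sum_add_distrib, ← Finset.mul_sum, hind, hone, Finset.sum_const,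
      Finset.card_univ, nsmul_eq_mul, mul_one, hUc, hU'.card, hDc]
    norm_num
  have hStr : ∑ r, S r r = 16 := by
    have h := htrace W V hdat.left (fun u h1 h2 => hboth u h2 h1) hdat.right.card
      fun u h1 h2 => htr0 u h2 h1
    simp only [hS] at h
    exact_mod_cast h
  have hTtr : ∑ r, T r r = 16 := by
    have h := htrace V W hdat.right hboth hdat.left.card htr0
    simp only [hT] at h
    exact_mod_cast h
  have hXtr : ∑ r, X r r = 16 := by
    have h := htr0 u₀ hu₀V hu₀W
    simp only [← hsumff, hX] at h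
    exact_mod_cast h
  -- positivity
  have hdiag : ∀ U : Subgroup b.1, Structure.Half (autHom b).range U → ∀ z : b.1, z ∉ U →
      ∀ r : B, ∀ n : ℤ, A (f U) r r = n → 1 ≤ n := by
    intro U _ z hz r n hn
    simp only [A, hg r] at hn
    have h' : (144 : ℝ)⁻¹ * ∑ u, g r u * (if u ∈ U then 0 else 4) = (n : ℝ) := by
      apply Complex.ofReal_injective
      push_cast
      rw [← hn]
      congr 1
      exact Finset.sum_congr rfl fun u _ => by simp only [f]; split_ifs <;> simp
    have hpos : 0 < ∑ u, g r u * (if u ∈ U then 0 else 4) :=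
      Finset.sum_pos' (fun u _ => mul_nonneg (hgpos r u).le (by split_ifs <;> norm_num))
        ⟨z, Finset.mem_univ _, by rw [if_neg hz]; exact mul_pos (hgpos r z) (by norm_num)⟩
    have : (0 : ℝ) < (n : ℝ) := h' ▸ by positivity
    exact_mod_cast this
  have hS1 : ∀ r, 1 ≤ S r r := fun r => hdiag W hdat.right u₀ hu₀W r _ (hS r r)
  have hT1 : ∀ r, 1 ≤ T r r := fun r => hdiag V hdat.left u₀ hu₀V r _ (hT r r)
  have hbound : ∀ r, 4 * (S r r + T r r) < 16 + X r r := fun r => by
    have h1 := hip (inv_one (b := b)) r.1 r.2 r.1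
    rw [star_const, classInner_self_irr] at h1
    have e : (fun u : b.1 => (16 : ℂ) * (if u = 1 then 1 else 0) + 0 * f W u) = fun u =>
        1 * (1 * ((16 : ℂ) * (1 : b.1 → ℂ) u + (-4) * f W u) + (-4) * f V u) + 1 * ff u := by
      funext u
      by_cases hu : u = 1
      · subst hu; simp [ff, f, one_mem]
      · by_cases h1 : u ∈ V <;> by_cases h2 : u ∈ W
        · exact absurd (hboth u h1 h2) hu
        all_goals simp [ff, f, h1, h2, hu]
        all_goals norm_num
    have h2 := congrArg (fun ζ => A ζ r.1 r.1) e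
    simp only [hAdd, ← h1, hS, hT, hX] at h2
    have h3 : A (fun u => if u = 1 then 1 else 0) r.1 r.1 = (144 : ℂ)⁻¹ * (g r 1 : ℂ) := by
      simp only [A]
      rw [Finset.sum_eq_single 1 (fun u _ hu => by simp [hu])
        (fun h => absurd (Finset.mem_univ _) h)]
      simp [hg r]
    rw [h3] at h2
    have h4 : (16 : ℝ) * ((144 : ℝ)⁻¹ * g r 1) =
        16 + (-4) * (S r r : ℝ) + (-4) * (T r r : ℝ) + (X r r : ℝ) := by
      apply Complex.ofReal_injective
      push_cast
      linear_combination h2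
    have h5 : (0 : ℝ) < (16 : ℝ) * ((144 : ℝ)⁻¹ * g r 1) := by
      have := hgpos r 1
      positivity
    rw [h4] at h5
    have : (0 : ℤ) < 16 + -4 * S r r + -4 * T r r + X r r := by exact_mod_cast h5
    linarith
  -- the count of the characters
  have hk : Nat.card B = l + 7 := by
    have h := Finset.sum_congr rfl fun (χ : B) (_ : χ ∈ (Finset.univ : Finset B)) =>
      sum_gram_eq hb hψ hab hM (hblk χ.2) χ.1
    simp only [classInner_self_irr, mul_one, hA, hD] at h
    rw [Finset.sum_comm, Finset.sum_const, nsmul_eq_mul] at h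
    have e : ∀ u : b.1, ∑ χ : B, gram hb χ.1 χ.1 u = 16 * 1 +
        128 * (if u ∈ V then 1 else 0) + 128 * (if u ∈ W then 1 else 0) +
          (144 * (l : ℂ) - 272) * (if u = 1 then 1 else 0) := fun u => by
      by_cases h1 : u ∈ V <;> by_cases h2 : u ∈ W
      · obtain rfl := hboth u h1 h2
        rw [htr1]
        simp [one_mem]
        ring
      · have hu1 : u ≠ 1 := fun e => h2 (e ▸ one_mem W)
        rw [htrV V hdat.left u h1 hu1]
        simp [h1, h2, hu1]
        norm_num
      · have hu1 : u ≠ 1 := fun e => h1 (e ▸ one_mem V)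
        rw [htrV W hdat.right u h2 hu1]
        simp [h1, h2, hu1]
        norm_num
      · rw [htr0 u h1 h2]
        simp [h1, h2, show u ≠ 1 from fun e => h1 (e ▸ one_mem V)]
    rw [Finset.sum_congr rfl fun u _ => e u] at h
    simp only [Finset.sum_add_distrib, ← Finset.mul_sum, hind, hone, Finset.sum_const,
      Finset.card_univ, nsmul_eq_mul, mul_one, hdat.left.card, hdat.right.card, hDc,
      ← Nat.card_eq_fintype_card, hD] at h
    push_cast at h
    have h2 : (144 : ℂ) * (Nat.card B : ℂ) = 144 * ((l : ℂ) + 7) := by linear_combination -h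
    exact_mod_cast mul_left_cancel₀ (by norm_num : (144 : ℂ) ≠ 0) h2
  -- rank one is impossible
  have hl2 : l ≠ 1 := by
    intro hl1
    obtain ⟨_, ⟨t, rfl⟩, -, x, hx⟩ := hdat.left.moves
    obtain ⟨n, m, hm, hord⟩ := Nat.exists_eq_pow_mul_and_not_dvd (orderOf_pos t).ne' 2
      (by norm_num)
    set t' := t ^ 2 ^ n with ht'
    have hreg : ¬ 2 ∣ orderOf ((t' : stab b) : G) := fun h => hm (h.trans
      (by rw [Subgroup.orderOf_coe]
          exact orderOf_dvd_of_pow_eq_one (by rw [ht', ← pow_mul, ← hord, pow_orderOf_eq_one])))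
    have h9 : autHom b t ^ 9 = 1 := by
      have h := pow_card_eq_one' (x := (⟨autHom b t, t, rfl⟩ : (autHom b).range))
      rw [hA] at h
      exact congrArg Subtype.val h
    have hfix' : autHom b t' = 1 := MulEquiv.ext fun y => Subtype.ext (by
      rw [autHom_apply, MulAut.one_apply]
      exact mul_inv_eq_iff_eq_mul.mpr (OneSection.commutes_of_rankOne hM (hl ▸ hl1) hreg P.2
        (fun r hr => (Subgroup.mem_normalizer_iff.mp (stab_le_normalizer b t'.2) r).mp hr) y.2))
    rw [ht', map_pow] at hfix'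
    have h1 : autHom b t = 1 := by
      have hcop : Nat.Coprime 9 (2 ^ n) := Nat.Coprime.pow_right n (by norm_num)
      have := pow_gcd_eq_one.mpr ⟨h9, hfix'⟩
      rwa [hcop.gcd_eq_one, pow_one] at this
    exact hx (by rw [h1, MulAut.one_apply, mul_inv_cancel]; exact one_mem _)
  have hl1 : 1 ≤ l := one_le_blockRank
  have hcardB : Fintype.card B = l + 7 := by rw [← Nat.card_eq_fintype_card, hk]
  -- the vector
  obtain ⟨r₁, hr₁⟩ : ∃ r, X r r = 1 := by
    by_contra h
    simp only [not_exists] at h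
    have h2 : ∑ _r : B, (2 : ℤ) ≤ ∑ r, X r r := Finset.sum_le_sum fun r _ => by
      have := hXpos r; have := h r; omega
    rw [hXtr, Finset.sum_const, Finset.card_univ, nsmul_eq_mul, hcardB] at h2
    push_cast at h2
    omega
  let x : B → ℤ := fun r => X r r₁
  have hx2 : ∀ r, x r * x r = X r r := fun r => by
    show X r r₁ * X r r₁ = _
    rw [hXsq, hr₁, mul_one]
  have hxne : ∀ r, x r ≠ 0 := fun r h => by
    have := hx2 r; have := hXpos r; rw [h] at *; omega
  have hsum : ∑ r, x r * x r = 16 := by rw [← hXtr]; exact Finset.sum_congr rfl fun r _ => hx2 r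
  have hST : ∀ r t, ∑ s, S r s * T s t = x r * x t := by
    intro r t
    show X r t = _
    have h0 : ∑ s, (X r s - x r * x s) * (X r s - x r * x s) = 0 := by
      have e1 : ∑ s, X r s * x s = 16 * x r := hX2 r r₁
      have e2 : ∑ s, X r s * X r s = 16 * X r r := by
        rw [← hX2 r r]; exact Finset.sum_congr rfl fun s _ => by rw [hXs s r]
      calc ∑ s, (X r s - x r * x s) * (X r s - x r * x s)
          = ∑ s, (X r s * X r s - 2 * x r * (X r s * x s) + x r * x r * (x s * x s)) :=
            Finset.sum_congr rfl fun s _ => by ring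
        _ = 0 := by
            rw [Finset.sum_add_distrib, Finset.sum_sub_distrib, ← Finset.mul_sum, ← Finset.mul_sum,
              e1, e2, hsum, ← hx2 r]
            ring
    have := (Finset.sum_eq_zero_iff_of_nonneg fun s _ => mul_self_nonneg _).mp h0 t
      (Finset.mem_univ t)
    exact sub_eq_zero.mp (mul_self_eq_zero.mp this)
  rcases Combi.card_le_or_eq hSs hTs hS2 hT2 hST hS1 hT1 hStr hTtr hxne hsum
    (fun r => hx2 r ▸ hbound r) with h | h
  · omega
  · exact ⟨by omega, by omega⟩

end Cfsg.Agent.Lib.ElemNine.Block
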