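import Mathlib

/-!
# Two symmetric integral matrices with the squares four times themselves

`S` and `T` are symmetric integral matrices with `S * S = 4 S`, `T * T = 4 T`, trace `16` and
`S * T = x xᵀ` for a vector `x` without zero entries with `∑ x ^ 2 = 16`, the diagonals positive and
bounded by `16 - 4 S r r - 4 T r r + x r ^ 2 > 0`.  Then there are at most eight rows, or sixteen.
-/

set_option autoImplicit false

namespace Cfsg.Agent.Lib.ElemNine.Combi

variable {R : Type*}

theorem even_sum_sq_sub (s : Finset R) (f : R → ℤ) : Even (∑ i ∈ s, (f i * f i - f i)) :=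
  Finset.even_sum _ fun i _ => by
    rcases Int.even_or_odd (f i) with h | h
    · exact (h.mul_left _).sub h
    · exact (h.mul h).sub_odd h

theorem eq_zero_of_small (s : Finset R) (f x : R → ℤ) (hx : ∀ i ∈ s, x i ≠ 0)
    (h1 : ∑ i ∈ s, f i * f i ≤ 1) (h0 : ∑ i ∈ s, f i * x i = 0) : ∀ i ∈ s, f i = 0 := by
  classical
  intro i hi
  by_contra hne
  rw [← Finset.add_sum_erase s _ hi] at h1 h0
  have hpos : 1 ≤ f i * f i := Int.add_one_le_iff.mpr (mul_self_pos.mpr hne)
  have hz : ∀ j ∈ s.erase i, f j * f j = 0 :=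
    (Finset.sum_eq_zero_iff_of_nonneg fun j _ => mul_self_nonneg (f j)).mp
      (le_antisymm (by linarith) (Finset.sum_nonneg fun j _ => mul_self_nonneg (f j)))
  rw [Finset.sum_eq_zero (fun j hj => by rw [mul_self_eq_zero.mp (hz j hj), zero_mul]), add_zero,
    mul_eq_zero] at h0
  exact h0.elim hne (hx i hi)

variable [Fintype R]

/-- The conditions on one matrix. -/
structure Proj (S : R → R → ℤ) (x : R → ℤ) : Prop where
  symm : ∀ r s, S r s = S s r
  sq : ∀ r t, ∑ s, S r s * S s t = 4 * S r t
  fix : ∀ r, ∑ s, S r s * x s = 4 * x r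
  diag : ∀ r, 1 ≤ S r r
  trace : ∑ r, S r r = 16

variable {S : R → R → ℤ} {x : R → ℤ}

theorem Proj.row_sq (h : Proj S x) [DecidableEq R] (r : R) :
    ∑ s ∈ Finset.univ.erase r, S r s * S r s = S r r * (4 - S r r) := by
  have h1 := h.sq r r
  rw [← Finset.add_sum_erase _ _ (Finset.mem_univ r),
    Finset.sum_congr rfl fun s _ => show S r s * S s r = S r s * S r s by rw [h.symm s r]] at h1
  linarith

theorem Proj.row_fix (h : Proj S x) [DecidableEq R] (r : R) :
    ∑ s ∈ Finset.univ.erase r, S r s * x s = (4 - S r r) * x r := by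
  have h1 := h.fix r
  rw [← Finset.add_sum_erase _ _ (Finset.mem_univ r)] at h1
  linarith

/-- In a row with diagonal two and entry two of `x`, vanishing at the other even rows, there are
four ones, each on a row with diagonal at least two. -/
theorem Proj.row_four (h : Proj S x) [DecidableEq R] {e : R} (he : x e = 2) (ha : S e e = 2)
    (hodd : ∀ s, s ≠ e → x s ≠ 1 → S e s = 0) (hx : ∀ s, x s ≠ 0) :
    ∃ N : Finset R, N.card = 4 ∧ (∀ t ∈ N, t ≠ e ∧ x t = 1 ∧ S e t = 1) ∧
      (∀ t, t ≠ e → t ∉ N → S e t = 0) ∧ (∀ t ∈ N, ∑ s ∈ N, S t s = 2 ∧ 2 ≤ S t t) := by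
  have h2 : ∑ s ∈ Finset.univ.erase e, S e s * S e s = 4 := by rw [h.row_sq, ha]; norm_num
  have h1 : ∑ s ∈ Finset.univ.erase e, S e s = 4 := by
    refine (Finset.sum_congr rfl fun s hs => ?_).trans
      ((h.row_fix e).trans (by rw [ha, he]; norm_num))
    by_cases hxs : x s = 1
    · rw [hxs, mul_one]
    · rw [hodd s (Finset.mem_erase.mp hs).1 hxs, zero_mul]
  have h01 : ∀ s ∈ Finset.univ.erase e, S e s * S e s = S e s := by
    have hnn : ∀ s ∈ Finset.univ.erase e, 0 ≤ S e s * S e s - S e s := fun s _ => by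
      rcases le_or_gt (S e s) 0 with hs | hs <;> nlinarith
    intro s hs
    have := (Finset.sum_eq_zero_iff_of_nonneg hnn).mp
      (by rw [Finset.sum_sub_distrib, h1, h2]; norm_num) s hs
    linarith
  set N := (Finset.univ.erase e).filter fun s => S e s ≠ 0 with hN
  have hmem : ∀ t ∈ N, t ≠ e ∧ x t = 1 ∧ S e t = 1 := by
    intro t ht
    obtain ⟨ht1, ht2⟩ := Finset.mem_filter.mp ht
    refine ⟨(Finset.mem_erase.mp ht1).1, by_contra fun hxt =>
      ht2 (hodd t (Finset.mem_erase.mp ht1).1 hxt), ?_⟩
    exact mul_right_cancel₀ ht2 ((h01 t ht1).trans (one_mul _).symm)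
  have hout : ∀ t, t ≠ e → t ∉ N → S e t = 0 := fun t ht htN => by_contra fun hne =>
    htN (Finset.mem_filter.mpr ⟨Finset.mem_erase.mpr ⟨ht, Finset.mem_univ _⟩, hne⟩)
  have hsumN : ∀ f : R → ℤ,
      ∑ s ∈ Finset.univ.erase e, S e s * f s = ∑ s ∈ N, f s := by
    intro f
    rw [← Finset.sum_filter_add_sum_filter_not (Finset.univ.erase e) (fun s => S e s ≠ 0), ← hN]
    rw [Finset.sum_congr rfl fun s hs => show S e s * f s = f s by rw [(hmem s hs).2.2, one_mul],
      add_eq_left]
    exact Finset.sum_eq_zero fun s hs => by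
      rw [not_not.mp (Finset.mem_filter.mp hs).2, zero_mul]
  have hcard : N.card = 4 := by
    have := hsumN fun _ => 1
    simp only [mul_one, h1, Finset.sum_const, nsmul_eq_mul] at this
    omega
  refine ⟨N, hcard, hmem, hout, fun t ht => ?_⟩
  obtain ⟨hte, hxt, het⟩ := hmem t ht
  have hsum : ∑ s ∈ N, S t s = 2 := by
    have h3 := h.sq e t
    rw [← Finset.add_sum_erase _ _ (Finset.mem_univ e), hsumN fun s => S s t, ha, het] at h3
    rw [Finset.sum_congr rfl fun s _ => h.symm t s]
    linarith
  refine ⟨hsum, ?_⟩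
  by_contra hlt
  have hat : S t t = 1 := by have := h.diag t; omega
  -- split the row of `t` into `e`, the set `N` and the rest
  set O := (Finset.univ.erase e) \ N with hO
  have hsplit : ∀ f : R → ℤ, ∑ s, f s = f e + (∑ s ∈ N, f s + ∑ s ∈ O, f s) := fun f => by
    rw [← Finset.add_sum_erase _ _ (Finset.mem_univ e), hO,
      ← Finset.sum_sdiff (Finset.filter_subset (fun s => S e s ≠ 0) (Finset.univ.erase e))]
    ring
  have hq : 4 = 1 + ((∑ s ∈ N, S t s * S t s) + ∑ s ∈ O, S t s * S t s) := by
    have h3 := h.sq t t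
    rw [Finset.sum_congr rfl fun s _ => show S t s * S s t = S t s * S t s by rw [h.symm s t],
      hsplit, hat, h.symm t e, het] at h3
    linarith
  have hl : 4 = 2 + (2 + ∑ s ∈ O, S t s * x s) := by
    have h3 := h.fix t
    rw [hsplit, h.symm t e, het, he, hxt, Finset.sum_congr rfl fun s hs =>
      show S t s * x s = S t s by rw [(hmem s hs).2.1, mul_one], hsum] at h3
    linarith
  have hN2 : ∑ s ∈ N.erase t, S t s = 1 := by
    rw [← Finset.add_sum_erase N _ ht, hat] at hsum
    linarith
  have hN3 : (∑ s ∈ N, S t s * S t s) = 1 + ∑ s ∈ N.erase t, S t s * S t s := by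
    rw [← Finset.add_sum_erase N _ ht, hat, one_mul]
  have hpos : 1 ≤ ∑ s ∈ N.erase t, S t s * S t s := by
    by_contra hle
    have hz := (Finset.sum_eq_zero_iff_of_nonneg fun s _ => mul_self_nonneg (S t s)).mp
      (le_antisymm (show ∑ s ∈ N.erase t, S t s * S t s ≤ 0 by omega)
        (Finset.sum_nonneg fun s _ => mul_self_nonneg _))
    rw [Finset.sum_eq_zero fun s hs => mul_self_eq_zero.mp (hz s hs)] at hN2
    exact zero_ne_one hN2
  have hO0 : ∀ s ∈ O, S t s = 0 :=
    eq_zero_of_small O (fun s => S t s) x (fun s _ => hx s) (by linarith) (by linarith)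
  rw [Finset.sum_eq_zero (s := O) (fun s hs => by rw [hO0 s hs, zero_mul])] at hq
  have hev := even_sum_sq_sub (N.erase t) fun s => S t s
  rw [Finset.sum_sub_distrib, hN2,
    show ∑ s ∈ N.erase t, S t s * S t s = 2 by linarith] at hev
  exact absurd hev (by decide)

theorem card_le_or_eq_of_pos {S T : R → R → ℤ} {x : R → ℤ} (hS : Proj S x) (hT : Proj T x)
    (hST : ∀ r t, ∑ s, S r s * T s t = x r * x t) (hx : ∀ r, 1 ≤ x r) (hsum : ∑ r, x r * x r = 16)
    (hbound : ∀ r, 4 * (S r r + T r r) < 16 + x r * x r) :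
    Fintype.card R ≤ 8 ∨ Fintype.card R = 16 := by
  classical
  by_cases hall : ∀ r, x r = 1
  · right
    simp only [hall, mul_one, Finset.sum_const, Finset.card_univ, nsmul_eq_mul] at hsum
    exact_mod_cast hsum
  by_contra hcon
  simp only [not_or, not_le] at hcon
  obtain ⟨hk, -⟩ := hcon
  -- the entries are one or two
  have hge : ∀ s : Finset R, ∑ r ∈ s, (x r * x r - 1) ≤ 7 := fun s => by
    refine (Finset.sum_le_sum_of_subset_of_nonneg (Finset.subset_univ s) fun r _ _ => by
      nlinarith [hx r]).trans ?_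
    rw [Finset.sum_sub_distrib, hsum, Finset.sum_const, Finset.card_univ, nsmul_eq_mul]
    omega
  have h12 : ∀ r, x r = 1 ∨ x r = 2 := fun r => by
    have h1 := hge {r}
    rw [Finset.sum_singleton] at h1
    have : x r < 3 := by nlinarith [hx r]
    have := hx r
    omega
  set E := Finset.univ.filter fun r => x r = 2 with hE
  have hE2 : E.card ≤ 2 := by
    have h1 := hge E
    rw [Finset.sum_congr rfl fun r hr => show x r * x r - 1 = 3 by
      rw [(Finset.mem_filter.mp hr).2]; norm_num, Finset.sum_const, nsmul_eq_mul] at h1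
    omega
  have hkE : (Fintype.card R : ℤ) + 3 * E.card = 16 := by
    rw [← hsum, ← Finset.sum_filter_add_sum_filter_not Finset.univ (fun r => x r = 2), ← hE,
      Finset.sum_congr rfl fun r hr => show x r * x r = 4 by
        rw [(Finset.mem_filter.mp hr).2]; norm_num,
      Finset.sum_congr rfl fun r hr => show x r * x r = 1 by
        rw [(h12 r).resolve_right (Finset.mem_filter.mp hr).2]; norm_num,
      Finset.sum_const, Finset.sum_const, nsmul_eq_mul, nsmul_eq_mul]
    have hsplit := Finset.card_filter_add_card_filter_not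
      (s := (Finset.univ : Finset R)) (fun r => x r = 2)
    rw [← hE, Finset.card_univ] at hsplit
    omega
  -- both diagonals are two on even rows
  have hne1 : ∀ {U : R → R → ℤ}, Proj U x → ∀ e ∈ E, U e e ≠ 1 := by
    intro U hU e he h1
    have hxe := (Finset.mem_filter.mp he).2
    have h2 := hU.row_sq e
    have h3 := hU.row_fix e
    rw [h1] at h2 h3
    rw [hxe] at h3
    -- a nonzero entry gives at most one unless at the other even row
    have hle : ∀ s ∈ Finset.univ.erase e,
        U e s * x s ≤ U e s * U e s + (if s ∈ E then 1 else 0) * (U e s * U e s) := by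
      intro s _
      rcases h12 s with hs | hs
      · rw [hs, mul_one, if_neg (by simp [hE, hs]), zero_mul, add_zero]
        rcases le_or_gt (U e s) 0 with h0 | h0 <;> nlinarith
      · rw [hs, if_pos (by simp [hE, hs]), one_mul]
        rcases le_or_gt (U e s) 0 with h0 | h0 <;> nlinarith
    have h4 := Finset.sum_le_sum hle
    rw [Finset.sum_add_distrib, h2, h3] at h4
    have h5 : ∑ s ∈ Finset.univ.erase e, (if s ∈ E then 1 else 0) * (U e s * U e s) =
        ∑ s ∈ E.erase e, U e s * U e s := by
      simp only [ite_mul, one_mul, zero_mul, ← Finset.sum_filter]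
      congr 1
      ext s
      simp [and_comm]
    rw [h5] at h4
    have hc : (E.erase e).card ≤ 1 := by rw [Finset.card_erase_of_mem he]; omega
    haveI : Nonempty R := ⟨e⟩
    rcases Finset.card_le_one_iff_subset_singleton.mp hc with ⟨f, hf⟩
    by_cases hfE : f ∈ E.erase e
    · rw [(Finset.subset_singleton_iff.mp hf).resolve_left (Finset.ne_empty_of_mem hfE),
        Finset.sum_singleton] at h4
      have h6 : U e f * U e f ≤ (4 - 1) := by
        have h7 := Finset.single_le_sum (fun s _ => mul_self_nonneg (U e s))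
          (Finset.mem_erase.mpr ⟨(Finset.mem_erase.mp hfE).1, Finset.mem_univ f⟩)
        rw [h2] at h7
        linarith
      have h8 : U e f * U e f ≤ 1 := by
        by_contra h9
        have : |U e f| < 2 := by nlinarith [abs_mul_abs_self (U e f), abs_nonneg (U e f)]
        nlinarith [abs_mul_abs_self (U e f), abs_nonneg (U e f)]
      linarith
    · rw [Finset.sum_eq_zero fun s hs => absurd
        ((Finset.mem_singleton.mp (hf hs)) ▸ hs) hfE] at h4
      linarith
  have h22 : ∀ e ∈ E, S e e = 2 ∧ T e e = 2 := by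
    intro e he
    have h1 := hbound e
    rw [(Finset.mem_filter.mp he).2] at h1
    have := hne1 hS e he
    have := hne1 hT e he
    have := hS.diag e
    have := hT.diag e
    omega
  -- one of the two matrices splits the even rows
  have hnone : ∀ {U : R → R → ℤ}, Proj U x → (∀ e ∈ E, U e e = 2) →
      ∃ e ∈ E, ∃ f ∈ E, f ≠ e ∧ U e f ≠ 0 := by
    intro U hU hd
    by_contra hzero
    simp only [not_exists, not_and, not_not] at hzero
    have hex : ∀ e ∈ E, ∃ N : Finset R, N.card = 4 ∧ (∀ t ∈ N, t ≠ e ∧ x t = 1 ∧ U e t = 1) ∧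
        (∀ t, t ≠ e → t ∉ N → U e t = 0) ∧ (∀ t ∈ N, ∑ s ∈ N, U t s = 2 ∧ 2 ≤ U t t) :=
      fun e he => hU.row_four (Finset.mem_filter.mp he).2 (hd e he)
        (fun s hse hs => hzero e he s
          (Finset.mem_filter.mpr ⟨Finset.mem_univ _, (h12 s).resolve_left hs⟩) hse)
        fun s => by have := hx s; omega
    choose N hNc hN hNout hN2 using hex
    set A := E.attach.biUnion fun e => N e.1 e.2 with hA
    have hAmem : ∀ t ∈ A, x t = 1 ∧ 2 ≤ U t t := fun t ht => by
      obtain ⟨e, -, hte⟩ := Finset.mem_biUnion.mp ht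
      exact ⟨(hN e.1 e.2 t hte).2.1, (hN2 e.1 e.2 t hte).2⟩
    have hdisj : Disjoint E A := Finset.disjoint_left.mpr fun t ht htA => by
      have := (hAmem t htA).1
      rw [(Finset.mem_filter.mp ht).2] at this
      omega
    set O := (E ∪ A)ᶜ with hO
    have htr := hU.trace
    rw [← Finset.sum_add_sum_compl (E ∪ A), Finset.sum_union hdisj, ← hO,
      Finset.sum_congr rfl fun e he => hd e he, Finset.sum_const, nsmul_eq_mul] at htr
    have h2 : 2 * (A.card : ℤ) ≤ ∑ t ∈ A, U t t :=
      le_of_eq_of_le (by simp [mul_comm]) (Finset.sum_le_sum fun t ht => (hAmem t ht).2)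
    have h3 : (O.card : ℤ) ≤ ∑ t ∈ O, U t t :=
      le_of_eq_of_le (by simp) (Finset.sum_le_sum fun t _ => hU.diag t)
    have hc : E.card + A.card + O.card = Fintype.card R := by
      rw [← Finset.card_union_of_disjoint hdisj, hO, Finset.card_add_card_compl]
    obtain ⟨e, he⟩ : E.Nonempty := by
      obtain ⟨r, hr⟩ := not_forall.mp hall
      exact ⟨r, Finset.mem_filter.mpr ⟨Finset.mem_univ _, (h12 r).resolve_left hr⟩⟩
    have hNA : ∀ f (hf : f ∈ E), N f hf ⊆ A := fun f hf =>
      Finset.subset_biUnion_of_mem (fun e : {x // x ∈ E} => N e.1 e.2) (Finset.mem_attach E ⟨f, hf⟩)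
    have hA4 : 4 ≤ A.card := hNc e he ▸ Finset.card_le_card (hNA e he)
    rcases (show E.card = 1 ∨ E.card = 2 by
      have := Finset.card_pos.mpr ⟨e, he⟩; omega) with hE1 | hE1
    · push_cast [hE1] at htr hkE
      omega
    -- two even rows: the same four neighbours
    push_cast [hE1] at htr hkE
    have hAc : A.card = 4 := by omega
    have hNe : N e he = A := Finset.eq_of_subset_of_card_le (hNA e he) (by rw [hAc, hNc])
    obtain ⟨f, hf, hfe⟩ : ∃ f ∈ E, f ≠ e := Finset.exists_mem_ne (by omega) e
    have hNf : N f hf = A := Finset.eq_of_subset_of_card_le (hNA f hf) (by rw [hAc, hNc])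
    have hEeq : E = {e, f} := (Finset.eq_of_subset_of_card_le
      (fun s hs => by rcases Finset.mem_insert.mp hs with rfl | hs
                      · exact he
                      · exact Finset.mem_singleton.mp hs ▸ hf)
      (by rw [hE1, Finset.card_pair (Ne.symm hfe)])).symm
    have hO1 : ∀ o ∈ O, U o o = 1 := by
      intro o ho
      have h4 : ∑ t ∈ O, (U t t - 1) = 0 := by
        rw [Finset.sum_sub_distrib, Finset.sum_const, nsmul_eq_mul, mul_one]
        omega
      have := (Finset.sum_eq_zero_iff_of_nonneg fun t _ => by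
        have := hU.diag t; omega).mp h4 o ho
      omega
    obtain ⟨t, ht⟩ : A.Nonempty := Finset.card_pos.mp (by omega)
    have hrow := hU.fix t
    rw [← Finset.sum_add_sum_compl (E ∪ A), Finset.sum_union hdisj, ← hO, (hAmem t ht).1] at hrow
    rw [Finset.sum_congr rfl fun s hs => show U t s * x s = 2 by
      rw [(Finset.mem_filter.mp hs).2, hU.symm t s,
        (hN s hs t (by
          rcases Finset.mem_insert.mp (hEeq ▸ hs) with rfl | h
          · rw [hNe]; exact ht
          · obtain rfl := Finset.mem_singleton.mp h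
            rw [hNf]; exact ht)).2.2, one_mul],
      Finset.sum_const, hE1, Finset.sum_congr rfl fun s hs => show U t s * x s = U t s by
        rw [(hAmem s hs).1, mul_one]] at hrow
    have htA : ∑ s ∈ A, U t s = 2 := by rw [← hNe]; exact (hN2 e he t (hNe ▸ ht)).1
    rw [htA] at hrow
    -- the outer rows are nonnegative
    have hnn : ∀ o ∈ O, 0 ≤ U o t * x o ∧ x o = 1 := by
      intro o ho
      have hoE : o ∉ E := fun h => Finset.mem_compl.mp ho (Finset.mem_union_left _ h)
      have hoA : o ∉ A := fun h => Finset.mem_compl.mp ho (Finset.mem_union_right _ h)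
      have hxo : x o = 1 := (h12 o).resolve_right fun h => hoE (by simp [hE, h])
      refine ⟨?_, hxo⟩
      rw [hxo, mul_one]
      have h5 : ∀ s, U o s * x s = U o s := fun s => by
        by_cases hs : s ∈ E
        · rw [hU.symm o s, hNout s hs o (fun h => hoE (h ▸ hs))
            (fun h => hoA (hNA s hs h)), zero_mul]
        · rw [(h12 s).resolve_right fun h => hs (by simp [hE, h]), mul_one]
      have h6 := hU.fix o
      simp only [h5, hxo, mul_one] at h6
      have h7 := hU.sq o o
      rw [Finset.sum_congr rfl fun s _ => show U o s * U s o = U o s * U o s by rw [hU.symm s o],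
        hO1 o ho, mul_one] at h7
      have hz := (Finset.sum_eq_zero_iff_of_nonneg
        (s := Finset.univ) (f := fun s => U o s * U o s - U o s) fun s _ => by
          rcases le_or_gt (U o s) 0 with hs | hs <;> nlinarith).mp
        (by rw [Finset.sum_sub_distrib, h6, h7, sub_self]) t (Finset.mem_univ t)
      nlinarith
    have : 0 ≤ ∑ o ∈ O, U t o * x o :=
      Finset.sum_nonneg fun o ho => by rw [hU.symm t o]; exact (hnn o ho).1
    simp at hrow
    linarith
  obtain ⟨e, he, f, hf, hfe, hne⟩ := hnone hS fun e he => (h22 e he).1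
  obtain ⟨e', he', f', hf', hfe', hne'⟩ := hnone hT fun e he => (h22 e he).2
  have hEef : E = {e, f} := (Finset.eq_of_subset_of_card_le
    (fun s hs => by rcases Finset.mem_insert.mp hs with rfl | hs
                    · exact he
                    · exact Finset.mem_singleton.mp hs ▸ hf)
    (by rw [Finset.card_pair (Ne.symm hfe)]; omega)).symm
  have hT' : T e f ≠ 0 := by
    rw [hEef, Finset.mem_insert, Finset.mem_singleton] at he' hf'
    rcases he' with rfl | rfl <;> rcases hf' with rfl | rfl
    · exact absurd rfl hfe'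
    · exact hne'
    · rw [hT.symm]; exact hne'
    · exact absurd rfl hfe'
  -- each is a block of its own
  have hiso : ∀ {U : R → R → ℤ}, Proj U x → U e e = 2 → U e f ≠ 0 →
      U e f = 2 ∧ ∀ s, s ≠ e → s ≠ f → U e s = 0 := by
    intro U hU hd hz
    have h2 := hU.row_sq e
    have h1 := hU.row_fix e
    have hfm : f ∈ Finset.univ.erase e := Finset.mem_erase.mpr ⟨hfe, Finset.mem_univ _⟩
    rw [← Finset.add_sum_erase _ _ hfm, hd] at h1 h2
    rw [(Finset.mem_filter.mp he).2, (Finset.mem_filter.mp hf).2] at h1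
    set O := (Finset.univ.erase e).erase f with hO
    have hone : ∀ s ∈ O, x s = 1 := fun s hs => (h12 s).resolve_right fun hs2 => by
      have hsE : s ∈ E := Finset.mem_filter.mpr ⟨Finset.mem_univ _, hs2⟩
      rw [hEef, Finset.mem_insert, Finset.mem_singleton] at hsE
      simp [hO] at hs
      tauto
    rw [Finset.sum_congr rfl fun s hs => show U e s * x s = U e s by rw [hone s hs, mul_one]] at h1
    have hnn : ∀ s ∈ O, 0 ≤ U e s * U e s := fun s _ => mul_self_nonneg _
    have hb : U e f * U e f ≤ 4 := by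
      have := Finset.sum_nonneg hnn
      linarith
    have hup : U e f ≤ 2 := by nlinarith
    have hlo : -2 ≤ U e f := by nlinarith
    have hev : Even (∑ s ∈ O, (U e s * U e s - U e s)) := even_sum_sq_sub O _
    have hge0 : 0 ≤ ∑ s ∈ O, (U e s * U e s - U e s) := Finset.sum_nonneg fun s _ => by
      rcases le_or_gt (U e s) 0 with hs | hs <;> nlinarith
    rw [Finset.sum_sub_distrib] at hev hge0
    obtain ⟨j, hj⟩ := hev
    have h2' : U e f = 2 := by
      obtain ⟨σ, hσ⟩ : ∃ σ : ℤ, ∑ s ∈ O, U e s = σ := ⟨_, rfl⟩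
      have h1' : U e f * 2 + σ = 4 := by linarith
      rw [hσ] at hj hge0
      have h3 : U e f = -2 ∨ U e f = -1 ∨ U e f = 1 ∨ U e f = 2 := by omega
      rcases h3 with h | h | h | h
      all_goals first
        | exact h
        | (rw [h] at h1' h2; omega)
    refine ⟨h2', fun s hse hsf => ?_⟩
    rw [h2'] at h2
    exact mul_self_eq_zero.mp ((Finset.sum_eq_zero_iff_of_nonneg hnn).mp (by linarith) s
      (by simp [hO, hse, hsf]))
  obtain ⟨hS2, hS0⟩ := hiso hS (h22 e he).1 hne
  obtain ⟨hT2, -⟩ := hiso hT (h22 e he).2 hT'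
  have hfin := hST e e
  rw [← Finset.add_sum_erase _ _ (Finset.mem_univ e),
    ← Finset.add_sum_erase _ _ (Finset.mem_erase.mpr ⟨hfe, Finset.mem_univ f⟩),
    Finset.sum_eq_zero fun s hs => by
      simp at hs
      rw [hS0 s hs.2 hs.1, zero_mul],
    (h22 e he).1, (h22 e he).2, hS2, hT.symm f e, hT2, (Finset.mem_filter.mp he).2] at hfin
  norm_num at hfin

/-- **The conclusion**, signs allowed. -/
theorem card_le_or_eq {S T : R → R → ℤ} {x : R → ℤ}
    (hSs : ∀ r s, S r s = S s r) (hTs : ∀ r s, T r s = T s r)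
    (hS : ∀ r t, ∑ s, S r s * S s t = 4 * S r t) (hT : ∀ r t, ∑ s, T r s * T s t = 4 * T r t)
    (hST : ∀ r t, ∑ s, S r s * T s t = x r * x t) (hS1 : ∀ r, 1 ≤ S r r) (hT1 : ∀ r, 1 ≤ T r r)
    (hStr : ∑ r, S r r = 16) (hTtr : ∑ r, T r r = 16) (hx : ∀ r, x r ≠ 0)
    (hsum : ∑ r, x r * x r = 16) (hbound : ∀ r, 4 * (S r r + T r r) < 16 + x r * x r) :
    Fintype.card R ≤ 8 ∨ Fintype.card R = 16 := by
  classical
  set ε : R → ℤ := fun r => if 0 < x r then 1 else -1 with hε
  have hεε : ∀ r, ε r * ε r = 1 := fun r => by simp only [hε]; split_ifs <;> norm_num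
  have hpos : ∀ r, 1 ≤ ε r * x r := fun r => by
    have := hx r
    simp only [hε]; split_ifs <;> omega
  have hTS : ∀ r t, ∑ s, T r s * S s t = x r * x t := fun r t => by
    rw [mul_comm, ← hST]
    exact Finset.sum_congr rfl fun s _ => by rw [hSs t s, hTs r s, mul_comm]
  have key : ∀ {U V : R → R → ℤ}, (∀ r s, U r s = U s r) →
      (∀ r t, ∑ s, U r s * U s t = 4 * U r t) → (∀ r t, ∑ s, U r s * V s t = x r * x t) →
      (∀ r, 1 ≤ U r r) → ∑ r, U r r = 16 →
      Proj (fun r s => ε r * ε s * U r s) fun r => ε r * x r := by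
    intro U V hUs hU hUV hU1 hUtr
    have hfix : ∀ r, ∑ s, U r s * x s = 4 * x r := fun r => by
      refine mul_right_cancel₀ (hx r) ?_
      calc (∑ s, U r s * x s) * x r = ∑ s, U r s * ∑ v, U s v * V v r := by
            rw [Finset.sum_mul]
            exact Finset.sum_congr rfl fun s _ => by rw [hUV, mul_assoc]
        _ = ∑ v, (∑ s, U r s * U s v) * V v r := by
            simp only [Finset.mul_sum, Finset.sum_mul]
            rw [Finset.sum_comm]
            simp only [mul_assoc]
        _ = 4 * ∑ v, U r v * V v r := by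
            rw [Finset.mul_sum]
            exact Finset.sum_congr rfl fun v _ => by rw [hU, mul_assoc]
        _ = 4 * x r * x r := by rw [hUV, mul_assoc]
    refine ⟨fun r s => by show _ = _; rw [hUs r s]; ring, fun r t => ?_, fun r => ?_,
      fun r => by show 1 ≤ _; rw [hεε, one_mul]; exact hU1 r, ?_⟩
    · show ∑ s, _ = _
      rw [Finset.sum_congr rfl fun s _ => show ε r * ε s * U r s * (ε s * ε t * U s t) =
        ε r * ε t * (U r s * U s t) by linear_combination ε r * ε t * U r s * U s t * hεε s,
        ← Finset.mul_sum, hU]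
      ring
    · show ∑ s, _ = _
      rw [Finset.sum_congr rfl fun s _ => show ε r * ε s * U r s * (ε s * x s) =
        ε r * (U r s * x s) by linear_combination ε r * U r s * x s * hεε s,
        ← Finset.mul_sum, hfix]
      ring
    · show ∑ r, _ = _
      simp only [hεε, one_mul]
      exact hUtr
  refine card_le_or_eq_of_pos (key hSs hS hST hS1 hStr) (key hTs hT hTS hT1 hTtr)
    (fun r t => ?_) hpos ?_ fun r => ?_
  · show ∑ s, _ = _
    rw [Finset.sum_congr rfl fun s _ => show ε r * ε s * S r s * (ε s * ε t * T s t) =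
      ε r * ε t * (S r s * T s t) by linear_combination ε r * ε t * S r s * T s t * hεε s,
      ← Finset.mul_sum, hST]
    ring
  · rw [← hsum]
    exact Finset.sum_congr rfl fun r _ => by linear_combination x r * x r * hεε r
  · show 4 * (ε r * ε r * S r r + ε r * ε r * T r r) < _
    rw [hεε, one_mul, one_mul,
      show ε r * x r * (ε r * x r) = x r * x r by linear_combination x r * x r * hεε r]
    exact hbound r

end Cfsg.Agent.Lib.ElemNine.Combi
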